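import Mathlib
import Cfsg.Agent.Lib.FrobRealize.FixedPointFree

/-!
Fixed-point-free linear groups: cyclic abelian subgroups, a dichotomy for maximal cyclic normal
subgroups, and the eigenvalue count for cyclic normal subgroups.
-/

namespace CfsgLib.Recognition.NearField

open Polynomial

variable {q : ℕ} [Fact q.Prime] {V : Type*} [AddCommGroup V] [Module (ZMod q) V]
  {G : Type*} [Group G] (ρ : G →* Module.End (ZMod q) V)

/-- No nontrivial element fixes a nonzero vector. -/
def Fpf : Prop := ∀ (g : G) (v : V), v ≠ 0 → ρ g v = v → g = 1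

variable {ρ}

theorem Fpf.injective (h : Fpf ρ) [Nontrivial V] : Function.Injective ρ := by
  rw [injective_iff_map_eq_one]
  intro g hg
  obtain ⟨v, hv⟩ := exists_ne (0 : V)
  exact h g v hv (by rw [hg]; rfl)

theorem apply_inv_self (g : G) (v : V) : ρ g⁻¹ (ρ g v) = v := by
  show (ρ g⁻¹ * ρ g) v = v
  rw [← map_mul, inv_mul_cancel, map_one]
  rfl

/-- Multiplicative automorphisms from the action. -/
noncomputable def actAut (ρ : G →* Module.End (ZMod q) V) : G →* MulAut (Multiplicative V) where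
  toFun g :=
    { toFun := fun v => Multiplicative.ofAdd (ρ g v.toAdd)
      invFun := fun v => Multiplicative.ofAdd (ρ g⁻¹ v.toAdd)
      left_inv := fun v => by simp only [toAdd_ofAdd, apply_inv_self, ofAdd_toAdd]
      right_inv := fun v => by
        simp only [toAdd_ofAdd]
        have := apply_inv_self (ρ := ρ) g⁻¹ v.toAdd
        rw [inv_inv] at this
        rw [this, ofAdd_toAdd]
      map_mul' := fun v w => by rw [toAdd_mul, map_add, ofAdd_add] }
  map_one' := by
    ext v
    simp
  map_mul' a b := by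
    ext v
    simp

variable [Finite V] [Nontrivial V] [Finite G]

theorem fpf_semidirect (h : Fpf ρ) :
    let X := Multiplicative V ⋊[actAut ρ] G
    (SemidirectProduct.inl : Multiplicative V →* X).range ≠ ⊥ ∧
      (SemidirectProduct.inr : G →* X).range ≤
        Subgroup.normalizer ((SemidirectProduct.inl : Multiplicative V →* X).range : Set X) ∧
      ∀ a ∈ (SemidirectProduct.inr : G →* X).range, a ≠ 1 →
        (SemidirectProduct.inl : Multiplicative V →* X).range ⊓ Subgroup.centralizer {a} = ⊥ := by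
  intro X
  haveI hn : (SemidirectProduct.inl : Multiplicative V →* X).range.Normal := by
    rw [SemidirectProduct.range_inl_eq_ker_rightHom]
    infer_instance
  refine ⟨?_, ?_, ?_⟩
  · obtain ⟨v, hv⟩ := exists_ne (0 : V)
    intro hb
    have h1 : (SemidirectProduct.inl (Multiplicative.ofAdd v) : X) ∈ (SemidirectProduct.inl : Multiplicative V →* X).range :=
      ⟨_, rfl⟩
    rw [hb, Subgroup.mem_bot] at h1
    exact hv (congrArg (fun x : X => x.left.toAdd) h1)
  · exact le_top.trans (Subgroup.normalizer_eq_top_iff.mpr hn).ge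
  · rintro _ ⟨g, rfl⟩ hg
    rw [Subgroup.eq_bot_iff_forall]
    rintro _ ⟨⟨w, rfl⟩, hc⟩
    by_contra hw
    apply hg
    have hc' : (SemidirectProduct.inr g : X) * SemidirectProduct.inl w = SemidirectProduct.inl w * SemidirectProduct.inr g :=
      (Subgroup.mem_centralizer_singleton_iff.mp hc).symm
    have h1 := congrArg (fun x : X => x.left.toAdd) hc'
    simp only [SemidirectProduct.mul_left, SemidirectProduct.left_inl, SemidirectProduct.left_inr,
      SemidirectProduct.right_inl, SemidirectProduct.right_inr, map_one, one_mul, mul_one] at h1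
    have h2 : ρ g w.toAdd = w.toAdd := h1
    rw [h g w.toAdd (fun e => hw (by rw [show w = 1 from Multiplicative.toAdd.injective e, map_one])) h2, map_one]

/-- Abelian subgroups are cyclic. -/
theorem isCyclic_of_comm (h : Fpf ρ) (A : Subgroup G) (hA : ∀ a ∈ A, ∀ b ∈ A, a * b = b * a) : IsCyclic A := by
  obtain ⟨h1, h2, h3⟩ := fpf_semidirect h
  haveI : Finite (Multiplicative V ⋊[actAut ρ] G) := Finite.of_equiv _ SemidirectProduct.equivProd.symm
  let A' := A.map (SemidirectProduct.inr : G →* Multiplicative V ⋊[actAut ρ] G)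
  have hle : A' ≤ (SemidirectProduct.inr : G →* Multiplicative V ⋊[actAut ρ] G).range := Subgroup.map_le_range _ _
  have hc : IsMulCommutative A' := by
    refine ⟨⟨fun x y => Subtype.ext ?_⟩⟩
    obtain ⟨a, ha, ea⟩ := x.2
    obtain ⟨b, hb, eb⟩ := y.2
    show (x : Multiplicative V ⋊[actAut ρ] G) * y = y * x
    rw [← ea, ← eb, ← map_mul, ← map_mul, hA a ha b hb]
  haveI := CfsgLib.FrobRealize.FPF.isCyclic_of_comm h1 (hle.trans h2) (fun a ha => h3 a (hle ha)) hc
  exact isCyclic_of_surjective _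
    (Subgroup.equivMapOfInjective A _ (SemidirectProduct.inr_injective (φ := actAut ρ))).symm.surjective

/-- Sylow subgroups of subgroups are cyclic or generalised quaternion. -/
theorem sylow_cases (h : Fpf ρ) (A : Subgroup G) {p : ℕ} [Fact p.Prime] (P : Sylow p A) :
    IsCyclic P ∨ (p = 2 ∧ ∃ n : ℕ, Nonempty (P ≃* QuaternionGroup (2 ^ n))) := by
  obtain ⟨h1, h2, h3⟩ := fpf_semidirect h
  haveI : Finite (Multiplicative V ⋊[actAut ρ] G) := Finite.of_equiv _ SemidirectProduct.equivProd.symm
  let A' := A.map (SemidirectProduct.inr : G →* Multiplicative V ⋊[actAut ρ] G)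
  have hle : A' ≤ (SemidirectProduct.inr : G →* Multiplicative V ⋊[actAut ρ] G).range := Subgroup.map_le_range _ _
  let e : A ≃* A' := Subgroup.equivMapOfInjective A _ (SemidirectProduct.inr_injective (φ := actAut ρ))
  let P' : Sylow p A' := P.mapSurjective (f := e.toMonoidHom) e.surjective
  let eP : (P : Subgroup A) ≃* (P' : Subgroup A') := Subgroup.equivMapOfInjective _ e.toMonoidHom e.injective
  rcases CfsgLib.FrobRealize.FPF.sylow_cyclic_or_quaternion h1 (hle.trans h2) (fun a ha => h3 a (hle ha)) P' with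
    hc | ⟨hp, n, ⟨i⟩⟩
  · left
    haveI : IsCyclic (P' : Subgroup A') := hc
    exact isCyclic_of_surjective eP.symm eP.symm.surjective
  · exact Or.inr ⟨hp, n, ⟨eP.trans i⟩⟩

omit [Fact q.Prime] in
theorem quaternion_class_two {n : ℕ}
    (hc : ∀ a b c : QuaternionGroup (2 ^ n), (a * b * a⁻¹ * b⁻¹) * c = c * (a * b * a⁻¹ * b⁻¹))
    (hne : ¬ ∀ a b : QuaternionGroup (2 ^ n), a * b = b * a) : n = 1 := by
  rcases n with _ | _ | n
  · exfalso
    apply hne
    decide
  · rfl
  · exfalso
    have h := hc (QuaternionGroup.a 1) (QuaternionGroup.xa 0) (QuaternionGroup.xa 0)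
    have hx : ∀ i : ZMod (2 * 2 ^ (n + 2)), (QuaternionGroup.a i)⁻¹ = QuaternionGroup.a (-i) := fun i => rfl
    have hy : ∀ i : ZMod (2 * 2 ^ (n + 2)), (QuaternionGroup.xa i)⁻¹ = QuaternionGroup.xa (((2 ^ (n + 2) : ℕ) : ZMod (2 * 2 ^ (n + 2))) + i) := fun i => rfl
    simp only [hx, hy, QuaternionGroup.a_mul_a, QuaternionGroup.a_mul_xa, QuaternionGroup.xa_mul_a,
      QuaternionGroup.xa_mul_xa, QuaternionGroup.xa.injEq] at h
    have h2 : ((2 * 2 ^ (n + 2) : ℕ) : ZMod (2 * 2 ^ (n + 2))) = 0 := ZMod.natCast_self _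
    have h4 : ((4 : ℕ) : ZMod (2 * 2 ^ (n + 2))) = 0 := by push_cast at h h2 ⊢; linear_combination -h - 2 * h2
    rw [ZMod.natCast_eq_zero_iff] at h4
    have := Nat.le_of_dvd (by norm_num) h4
    have h8 : 4 ≤ 2 ^ (n + 2) := by rw [pow_add]; have := Nat.one_le_two_pow (n := n); omega
    omega

/-- A cyclic normal subgroup which is its own centraliser in `N`, or a normal quaternion subgroup. -/
theorem dichotomy (h : Fpf ρ) [Group.IsSolvable G] (N : Subgroup G) [N.Normal] :
    ∃ B : Subgroup G, B ≤ N ∧ B.Normal ∧ IsCyclic B ∧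
      ((N ⊓ Subgroup.centralizer (B : Set G) = B) ∨
        ∃ Q : Subgroup G, Q ≤ N ∧ Q.Normal ∧ Nonempty (Q ≃* QuaternionGroup 2)) := by
  classical
  let S : Set (Subgroup G) := {B | B ≤ N ∧ B.Normal ∧ IsCyclic B}
  haveI : Finite (Subgroup G) := Finite.of_injective (fun H : Subgroup G => (H : Set G)) SetLike.coe_injective
  have hne : S.Nonempty := ⟨⊥, bot_le, inferInstance, inferInstance⟩
  obtain ⟨B, ⟨hBN, hBn, hBc⟩, hmax⟩ := Set.Finite.exists_maximal (Set.toFinite S) hne
  refine ⟨B, hBN, hBn, hBc, ?_⟩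
  haveI := hBn
  haveI := hBc
  by_cases hC : N ⊓ Subgroup.centralizer (B : Set G) = B
  · exact Or.inl hC
  right
  set C := N ⊓ Subgroup.centralizer (B : Set G) with hCdef
  haveI : C.Normal := inferInstance
  have hBC : B ≤ C := le_inf hBN (fun x hx => Subgroup.mem_centralizer_iff.mpr fun y hy => by
    obtain ⟨g, hg⟩ := IsCyclic.exists_generator (α := B)
    obtain ⟨i, hi⟩ := Subgroup.mem_zpowers_iff.mp (hg ⟨x, hx⟩)
    obtain ⟨j, hj⟩ := Subgroup.mem_zpowers_iff.mp (hg ⟨y, hy⟩)
    have ei : (g : G) ^ i = x := congrArg Subtype.val hi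
    have ej : (g : G) ^ j = y := congrArg Subtype.val hj
    rw [← ei, ← ej, zpow_mul_comm])
  let D : ℕ → Subgroup G := fun i => (derivedSeries C i).map C.subtype
  have hex : ∃ i, D i ≤ B := by
    obtain ⟨i, hi⟩ := (inferInstance : Group.IsSolvable C).solvable
    exact ⟨i, by simp [D, hi]⟩
  obtain ⟨k, hk⟩ : ∃ k, Nat.find hex = k + 1 := by
    refine Nat.exists_eq_succ_of_ne_zero fun h0 => hC (le_antisymm ?_ hBC)
    have := Nat.find_spec hex
    rw [h0] at this
    simpa [D, ← MonoidHom.range_eq_map] using this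
  have hk1 : D (k + 1) ≤ B := hk ▸ Nat.find_spec hex
  have hk0 : ¬ D k ≤ B := Nat.find_min hex (by omega)
  have hDC : D k ≤ C := Subgroup.map_subtype_le _
  haveI : (D k).Normal := ConjAct.normal_of_characteristic_of_normal
  set M := D k ⊔ B with hMdef
  haveI : M.Normal := inferInstance
  have hMC : M ≤ C := sup_le hDC hBC
  have hMN : M ≤ N := hMC.trans inf_le_left
  have hcent : ∀ b ∈ B, ∀ x ∈ M, b * x = x * b := fun b hb x hx => Subgroup.mem_centralizer_iff.mp (hMC hx).2 b hb
  have hcomm : ∀ x ∈ M, ∀ y ∈ M, x * y * x⁻¹ * y⁻¹ ∈ B := by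
    intro x hx y hy
    obtain ⟨d, hd, b, hb, rfl⟩ := Subgroup.mem_sup_of_normal_right.mp hx
    obtain ⟨d', hd', b', hb', rfl⟩ := Subgroup.mem_sup_of_normal_right.mp hy
    have hd1 : Commute b d' := hcent b hb d' (Subgroup.mem_sup_left hd')
    have hd2 : Commute b' d := hcent b' hb' d (Subgroup.mem_sup_left hd)
    have hbb : Commute b b' := hcent b hb b' (Subgroup.mem_sup_right hb')
    have e : d * b * (d' * b') * (d * b)⁻¹ * (d' * b')⁻¹ = d * d' * d⁻¹ * d'⁻¹ := by
      simp only [mul_inv_rev, mul_assoc]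
      rw [← mul_assoc b d', hd1.eq, mul_assoc, ← mul_assoc b b', hbb.eq, mul_assoc, mul_inv_cancel_left]
      rw [← mul_assoc b' d⁻¹, (hd2.inv_right).eq, mul_assoc, mul_inv_cancel_left]
    rw [e]
    apply hk1
    obtain ⟨a, ha, rfl⟩ := hd
    obtain ⟨a', ha', rfl⟩ := hd'
    refine ⟨a * a' * a⁻¹ * a'⁻¹, ?_, by simp⟩
    rw [derivedSeries_succ]
    exact Subgroup.commutator_mem_commutator ha ha'
  haveI hMnil : Group.IsNilpotent M := by
    let B' : Subgroup M := B.subgroupOf M
    haveI : IsMulCommutative (M ⧸ B') := by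
      refine ⟨⟨fun a b => ?_⟩⟩
      obtain ⟨x, rfl⟩ := QuotientGroup.mk'_surjective B' a
      obtain ⟨y, rfl⟩ := QuotientGroup.mk'_surjective B' b
      rw [← mul_inv_eq_one, ← map_mul, ← map_mul, ← map_inv, ← map_mul, ← MonoidHom.mem_ker, QuotientGroup.ker_mk',
        Subgroup.mem_subgroupOf, show ((x * y * (y * x)⁻¹ : M) : G) = (x : G) * y * (x : G)⁻¹ * (y : G)⁻¹ by simp [mul_assoc]]
      exact hcomm x x.2 y y.2
    letI : CommGroup (M ⧸ B') := { (inferInstance : Group (M ⧸ B')) with mul_comm := fun a b => mul_comm' a b }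
    refine Subgroup.isNilpotent_of_ker_le_center (QuotientGroup.mk' B') ?_
    rw [QuotientGroup.ker_mk']
    exact fun x hx => Subgroup.mem_center_iff.mpr fun y => Subtype.ext (hcent x (Subgroup.mem_subgroupOf.mp hx) y y.2).symm
  obtain ⟨p, hp, P, hP⟩ : ∃ (p : ℕ) (_ : Fact p.Prime) (P : Sylow p M), ¬ ∀ a b : (P : Subgroup M), a * b = b * a := by
    by_contra hall
    push_neg at hall
    have hab : ∀ x ∈ M, ∀ y ∈ M, x * y = y * x := by
      intro x hx y hy
      let e := Sylow.directProductOfNormal (fun {p} hp (P : Sylow p M) => (inferInstance : (P : Subgroup M).Normal))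
      have := e.symm.injective (a₁ := (⟨x, hx⟩ * ⟨y, hy⟩ : M)) (a₂ := ⟨y, hy⟩ * ⟨x, hx⟩) (by
        rw [map_mul, map_mul]
        funext p P
        haveI : Fact (p : ℕ).Prime := ⟨Nat.prime_of_mem_primeFactors p.2⟩
        exact hall p inferInstance P _ _)
      exact congrArg Subtype.val this
    have hle := hmax ⟨hMN, inferInstance, isCyclic_of_comm h M hab⟩ le_sup_right
    exact hk0 (le_sup_left.trans hle)
  rcases sylow_cases h M P with hc | ⟨rfl, n, ⟨i⟩⟩
  · exfalso
    letI := hc.commGroup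
    exact hP mul_comm
  have hn1 : n = 1 := by
    refine quaternion_class_two (fun a b c => ?_) (fun hh => hP fun a b => i.injective (by rw [map_mul, map_mul, hh]))
    apply i.symm.injective
    simp only [map_mul, map_inv]
    set a' := i.symm a
    set b' := i.symm b
    set c' := i.symm c
    have hmem := hcomm _ (a' : M).2 _ (b' : M).2
    exact Subtype.ext (Subtype.ext (hcent _ hmem _ (c' : M).2))
  subst hn1
  haveI : (P : Subgroup M).Normal := inferInstance
  haveI : (P : Subgroup M).Characteristic := P.characteristic_of_normal ‹_›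
  refine ⟨(P : Subgroup M).map M.subtype, (Subgroup.map_subtype_le _).trans hMN, ConjAct.normal_of_characteristic_of_normal,
    ⟨(Subgroup.equivMapOfInjective _ M.subtype M.subtype_injective).symm.trans (i.trans (MulEquiv.refl _))⟩⟩

omit [Finite V] [Nontrivial V] [Finite G] in
theorem sub_one_injective (h : Fpf ρ) {g : G} (hg : g ≠ 1) {v : V} (hv : (ρ g - 1) v = 0) : v = 0 := by
  by_contra hne
  exact hg (h g v hne (sub_eq_zero.mp hv))

variable [FiniteDimensional (ZMod q) V]

omit [Finite V] [Nontrivial V] [Finite G] [FiniteDimensional (ZMod q) V] in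
theorem Fpf.powers (h : Fpf ρ) (t : G) : ∀ (j : ℕ) (v : V), v ≠ 0 → ρ (t ^ j) v = v → t ^ j = 1 :=
  fun j v => h (t ^ j) v

/-- Eigenvalue data of a generator of a cyclic normal subgroup. -/
theorem eigen (t : G) (h : ∀ (j : ℕ) (v : V), v ≠ 0 → ρ (t ^ j) v = v → t ^ j = 1) (P : (ZMod q)[X]) (hP0 : P ≠ 0) (hP : aeval (ρ t) P = 0)
    (hconj : ∀ x : G, ∃ s : ℕ, x * t * x⁻¹ = t ^ s) :
    ∃ f : (ZMod q)[X], Irreducible f ∧ f ∣ minpoly (ZMod q) (ρ t) ∧ f.natDegree ≤ P.natDegree ∧
      orderOf t ∣ q ^ f.natDegree - 1 ∧ Nat.card (conjugatesOf t) ≤ P.natDegree := by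
  classical
  set T := ρ t with hT
  have hint : IsIntegral (ZMod q) T := Algebra.IsIntegral.isIntegral T
  have hmp : minpoly (ZMod q) T ∣ P := minpoly.dvd _ _ hP
  have hmp0 : minpoly (ZMod q) T ≠ 0 := minpoly.ne_zero hint
  obtain ⟨f, hf, hfd⟩ := WfDvdMonoid.exists_irreducible_factor
    (not_isUnit_of_degree_pos _ (minpoly.degree_pos hint)) hmp0
  obtain ⟨r, hr⟩ := hfd
  have hdeg : f.natDegree ≤ P.natDegree := natDegree_le_of_dvd ((Dvd.intro r hr.symm).trans hmp) hP0
  haveI := Fact.mk hf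
  set τ := AdjoinRoot.root f with hτ
  have hr0 : aeval T r ≠ 0 := by
    intro h0
    have hr' : r ≠ 0 := fun e => hmp0 (by rw [hr, e, mul_zero])
    have h1 := natDegree_le_of_dvd (minpoly.dvd (ZMod q) T h0) hr'
    rw [hr, natDegree_mul hf.ne_zero hr'] at h1
    have := hf.natDegree_pos
    omega
  have hroot : ∀ p : (ZMod q)[X], aeval τ p = 0 ↔ f ∣ p := fun p => by
    rw [hτ, AdjoinRoot.aeval_eq, AdjoinRoot.mk_eq_zero]
  -- the root has the order of the element
  have hτpow : ∀ j : ℕ, τ ^ j = 1 ↔ t ^ j = 1 := by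
    intro j
    constructor
    · intro hj
      by_contra hne
      apply hr0
      have hd : f ∣ (X ^ j - 1 : (ZMod q)[X]) := (hroot _).mp (by simp [hj])
      obtain ⟨c, hc⟩ := hd
      refine LinearMap.ext fun v => ?_
      have e : (ρ (t ^ j) - 1) * aeval T r = 0 := by
        have h1 : aeval T (X ^ j - 1 : (ZMod q)[X]) = ρ (t ^ j) - 1 := by simp [hT]
        rw [← h1, ← map_mul, hc, mul_assoc, mul_comm c r, ← mul_assoc, ← hr, map_mul, minpoly.aeval, zero_mul]
      by_contra hv
      exact hne (h j _ hv (sub_eq_zero.mp (DFunLike.congr_fun e v)))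
    · intro hj
      have hd : minpoly (ZMod q) T ∣ (X ^ j - 1 : (ZMod q)[X]) := minpoly.dvd _ _ (by rw [map_sub, map_one, aeval_X_pow, hT, ← map_pow, hj, map_one, sub_self])
      have := (hroot _).mpr ((Dvd.intro r hr.symm).trans hd)
      simpa [sub_eq_zero] using this
  have hord : orderOf τ = orderOf t := orderOf_eq_orderOf_iff.mpr hτpow
  refine ⟨f, hf, Dvd.intro r hr.symm, hdeg, ?_, ?_⟩
  · haveI : FiniteDimensional (ZMod q) (AdjoinRoot f) := (AdjoinRoot.powerBasis hf.ne_zero).finite
    haveI : Finite (AdjoinRoot f) := Module.finite_of_finite (ZMod q)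
    haveI : Fintype (AdjoinRoot f) := Fintype.ofFinite _
    have hcard : Fintype.card (AdjoinRoot f) = q ^ f.natDegree := by
      rw [Module.card_eq_pow_finrank (K := ZMod q), ZMod.card, (AdjoinRoot.powerBasis hf.ne_zero).finrank,
        AdjoinRoot.powerBasis_dim]
    have hτ0 : τ ≠ 0 := fun e => by
      have := (hτpow (orderOf t)).mpr (pow_orderOf_eq_one t)
      rw [e, zero_pow (orderOf_pos t).ne'] at this
      exact zero_ne_one this
    rw [← hord, ← hcard]
    exact orderOf_dvd_of_pow_eq_one (FiniteField.pow_card_sub_one_eq_one τ hτ0)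
  · choose s hs using hconj
    have hmem : ∀ y ∈ conjugatesOf t, ∃ k : ℕ, t ^ k = y ∧ aeval (τ ^ k) P = 0 := by
      intro y hy
      obtain ⟨x, rfl⟩ := isConj_iff.mp hy
      refine ⟨s x, (hs x).symm, ?_⟩
      have h1 : aeval (T ^ s x) P = 0 := by
        have hc : ρ x * T * ρ x⁻¹ = T ^ s x := by rw [hT, ← map_pow, ← hs x, map_mul, map_mul]
        rw [← hc]
        have hu : ρ x⁻¹ * ρ x = 1 := by rw [← map_mul, inv_mul_cancel, map_one]
        have hu' : ρ x * ρ x⁻¹ = 1 := by rw [← map_mul, mul_inv_cancel, map_one]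
        have key : ∀ p : (ZMod q)[X], aeval (ρ x * T * ρ x⁻¹) p = ρ x * aeval T p * ρ x⁻¹ := by
          intro p
          induction p using Polynomial.induction_on' with
          | add a b ha hb => rw [map_add, map_add, ha, hb, mul_add, add_mul]
          | monomial n a =>
            have hp : ∀ n : ℕ, (ρ x * T * ρ x⁻¹) ^ n = ρ x * T ^ n * ρ x⁻¹ := by
              intro n
              induction n with
              | zero => rw [pow_zero, pow_zero, mul_one, hu']
              | succ n ih =>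
                rw [pow_succ, pow_succ, ih]
                simp only [mul_assoc]
                rw [← mul_assoc (ρ x⁻¹) (ρ x), hu, one_mul]
            rw [aeval_monomial, aeval_monomial, hp, Algebra.algebraMap_eq_smul_one, smul_mul_assoc, one_mul, smul_mul_assoc, one_mul,
              mul_smul_comm, smul_mul_assoc]
        rw [key, hP, mul_zero, zero_mul]
      have h2 : aeval T (P.comp (X ^ s x)) = 0 := by rw [aeval_comp, aeval_X_pow, h1]
      have h3 := (hroot _).mpr ((Dvd.intro r hr.symm).trans (minpoly.dvd _ _ h2))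
      rwa [aeval_comp, aeval_X_pow] at h3
    choose k hk using hmem
    let F : conjugatesOf t → {z : AdjoinRoot f // z ∈ (P.map (algebraMap (ZMod q) (AdjoinRoot f))).roots.toFinset} :=
      fun y => ⟨τ ^ k y.1 y.2, by
        rw [Multiset.mem_toFinset, mem_roots (Polynomial.map_ne_zero hP0), IsRoot, eval_map, ← aeval_def]
        exact (hk y.1 y.2).2⟩
    have hF : Function.Injective F := by
      intro a b hab
      have h1 : τ ^ k a.1 a.2 = τ ^ k b.1 b.2 := congrArg Subtype.val hab
      apply Subtype.ext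
      rw [← (hk a.1 a.2).1, ← (hk b.1 b.2).1, pow_inj_mod, ← hord]
      by_cases hτ0 : τ = 0
      · exfalso
        have := (hτpow (orderOf t)).mpr (pow_orderOf_eq_one t)
        rw [hτ0, zero_pow (orderOf_pos t).ne'] at this
        exact zero_ne_one this
      · let u : (AdjoinRoot f)ˣ := Units.mk0 τ hτ0
        have hu : u ^ k a.1 a.2 = u ^ k b.1 b.2 := Units.ext (by simpa [u] using h1)
        rw [pow_inj_mod, ← orderOf_units] at hu
        exact hu
    have h1 := Nat.card_le_card_of_injective F hF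
    rw [Nat.card_eq_finsetCard] at h1
    exact h1.trans ((Multiset.toFinset_card_le _).trans ((card_roots' _).trans natDegree_map_le))

/-- If the generator acts irreducibly, the group is semilinear. -/
theorem semilinear (t : G) (hconj : ∀ x : G, ∃ s : ℕ, x * t * x⁻¹ = t ^ s)
    (f : (ZMod q)[X]) (hf : Irreducible f) (hdvd : f ∣ minpoly (ZMod q) (ρ t))
    (hdeg : Module.finrank (ZMod q) V ≤ f.natDegree) :
    ∃ (F : Type) (_ : Field F) (_ : Fintype F) (e : V ≃+ F),
      ∀ g : G, ∃ (a : F) (σ : F ≃+* F), ∀ v : V, e (ρ g v) = a * σ (e v) := by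
  classical
  set T := ρ t with hT
  have hint : IsIntegral (ZMod q) T := Algebra.IsIntegral.isIntegral T
  haveI := Fact.mk hf
  have hfT : aeval T f = 0 := by
    obtain ⟨r, hr⟩ := hdvd
    have hr' : r ≠ 0 := fun e => minpoly.ne_zero hint (by rw [hr, e, mul_zero])
    have h1 : (minpoly (ZMod q) T).natDegree ≤ Module.finrank (ZMod q) V :=
      (natDegree_le_of_dvd (LinearMap.minpoly_dvd_charpoly T) T.charpoly_monic.ne_zero).trans T.charpoly_natDegree.le
    rw [hr, natDegree_mul hf.ne_zero hr'] at h1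
    have hr0 : r.natDegree = 0 := by omega
    have hu : IsUnit r := isUnit_iff_degree_eq_zero.mpr (by rw [degree_eq_natDegree hr', hr0]; rfl)
    obtain ⟨c, hc⟩ := hu.exists_right_inv
    rw [show f = minpoly (ZMod q) T * c by rw [hr, mul_assoc, hc, mul_one], map_mul, minpoly.aeval, zero_mul]
  haveI : FiniteDimensional (ZMod q) (AdjoinRoot f) := (AdjoinRoot.powerBasis hf.ne_zero).finite
  haveI : Finite (AdjoinRoot f) := Module.finite_of_finite (ZMod q)
  let φ : AdjoinRoot f →+* Module.End (ZMod q) V :=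
    Ideal.Quotient.lift (Ideal.span {f}) (aeval T : (ZMod q)[X] →ₐ[ZMod q] _).toRingHom (fun p hp => by
      obtain ⟨c, rfl⟩ := Ideal.mem_span_singleton'.mp hp
      show aeval T (c * f) = 0
      rw [map_mul, hfT, mul_zero])
  have hφ : ∀ p, φ (AdjoinRoot.mk f p) = aeval T p := fun p => rfl
  obtain ⟨v0, hv0⟩ := exists_ne (0 : V)
  let ev : AdjoinRoot f →+ V :=
    { toFun := fun x => φ x v0
      map_zero' := by rw [map_zero]; rfl
      map_add' := fun a b => by rw [map_add]; rfl }
  have hinj : Function.Injective ev := by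
    rw [injective_iff_map_eq_zero]
    intro x hx
    by_contra hne
    apply hv0
    have h1 : φ x⁻¹ (φ x v0) = v0 := by
      show (φ x⁻¹ * φ x) v0 = v0
      rw [← map_mul, inv_mul_cancel₀ hne, map_one]
      rfl
    rw [← h1, show φ x v0 = 0 from hx, map_zero]
  have hbij : Function.Bijective ev := by
    rw [Nat.bijective_iff_injective_and_card]
    refine ⟨hinj, le_antisymm (Nat.card_le_card_of_injective _ hinj) ?_⟩
    rw [Module.natCard_eq_pow_finrank (K := ZMod q) (V := V), Module.natCard_eq_pow_finrank (K := ZMod q) (V := AdjoinRoot f),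
      (AdjoinRoot.powerBasis hf.ne_zero).finrank, AdjoinRoot.powerBasis_dim]
    exact Nat.pow_le_pow_right (by rw [Nat.card_zmod]; exact (Fact.out : q.Prime).pos) hdeg
  let e : V ≃+ AdjoinRoot f := (AddEquiv.ofBijective ev hbij).symm
  refine ⟨AdjoinRoot f, inferInstance, Fintype.ofFinite _, e, fun g => ?_⟩
  obtain ⟨s, hs⟩ := hconj g
  -- conjugation is a field automorphism
  have hsT : ρ g * T = T ^ s * ρ g := by
    rw [hT, ← map_pow, ← map_mul, ← map_mul, ← hs, inv_mul_cancel_right]
  have hcomm : ∀ p : (ZMod q)[X], ρ g * aeval T p = aeval (T ^ s) p * ρ g := by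
    intro p
    induction p using Polynomial.induction_on' with
    | add a b ha hb => rw [map_add, map_add, mul_add, add_mul, ha, hb]
    | monomial n a =>
      have hp : ρ g * T ^ n = (T ^ s) ^ n * ρ g := (show SemiconjBy (ρ g) T (T ^ s) from hsT).pow_right n
      rw [aeval_monomial, aeval_monomial, Algebra.algebraMap_eq_smul_one, smul_mul_assoc, one_mul, smul_mul_assoc, one_mul,
        mul_smul_comm, smul_mul_assoc, hp]
  have hfs : aeval ((AdjoinRoot.root f) ^ s) f = 0 := by
    have h2 : aeval T (f.comp (X ^ s)) = 0 := by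
      rw [aeval_comp, aeval_X_pow]
      have h3 := hcomm f
      rw [hfT, mul_zero] at h3
      have h4 : ρ g * ρ g⁻¹ = 1 := by rw [← map_mul, mul_inv_cancel, map_one]
      rw [← mul_one (aeval (T ^ s) f), ← h4, ← mul_assoc, ← h3, zero_mul]
    have hd : f ∣ f.comp (X ^ s) := hdvd.trans (minpoly.dvd _ _ h2)
    rw [← aeval_X_pow (R := ZMod q) (AdjoinRoot.root f), ← aeval_comp, AdjoinRoot.aeval_eq, AdjoinRoot.mk_eq_zero]
    exact hd
  let σ0 : AdjoinRoot f →+* AdjoinRoot f :=
    Ideal.Quotient.lift (Ideal.span {f}) (aeval ((AdjoinRoot.root f) ^ s) : (ZMod q)[X] →ₐ[ZMod q] _).toRingHom (fun p hp => by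
      obtain ⟨c, rfl⟩ := Ideal.mem_span_singleton'.mp hp
      show aeval _ (c * f) = 0
      rw [map_mul, hfs, mul_zero])
  have hσ : ∀ x, ρ g * φ x = φ (σ0 x) * ρ g := by
    intro x
    obtain ⟨p, rfl⟩ := AdjoinRoot.mk_surjective x
    have h1 : σ0 (AdjoinRoot.mk f p) = AdjoinRoot.mk f (p.comp (X ^ s)) := by
      show aeval ((AdjoinRoot.root f) ^ s) p = _
      rw [← AdjoinRoot.aeval_eq, aeval_comp, aeval_X_pow]
    rw [h1, hφ, hφ, hcomm, aeval_comp, aeval_X_pow]
  let σ : AdjoinRoot f ≃+* AdjoinRoot f := RingEquiv.ofBijective σ0 (Finite.injective_iff_bijective.mp σ0.injective)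
  refine ⟨e (ρ g v0), σ, fun v => ?_⟩
  apply e.symm.injective
  rw [AddEquiv.symm_apply_apply]
  show ρ g v = ev (e (ρ g v0) * σ0 (e v))
  have hev : ∀ w : V, φ (e w) v0 = w := fun w => e.symm_apply_apply w
  show ρ g v = φ (e (ρ g v0) * σ0 (e v)) v0
  rw [mul_comm, map_mul]
  show ρ g v = φ (σ0 (e v)) (φ (e (ρ g v0)) v0)
  rw [hev]
  show ρ g v = (φ (σ0 (e v)) * ρ g) v0
  rw [← hσ]
  show ρ g v = ρ g (φ (e v) v0)
  rw [hev]

end CfsgLib.Recognition.NearField
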