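import Mathlib
import Cfsg.Agent.Lib.Recognition.NearField.Basic

/-!
Fixed-point-free linear groups with a normal quaternion subgroup.
-/

namespace CfsgLib.Recognition.NearField

open Polynomial

variable {q : ℕ} [Fact q.Prime] {V : Type*} [AddCommGroup V] [Module (ZMod q) V] [Finite V] [Nontrivial V]
  {G : Type*} [Group G] [Finite G] {ρ : G →* Module.End (ZMod q) V}

omit [Finite V] [Finite G] in
theorem involution_neg (h : Fpf ρ) {z : G} (hz : z * z = 1) (hz1 : z ≠ 1) :
    (∀ v : V, ρ z v = -v) ∧ q ≠ 2 := by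
  have hsq : ∀ v : V, ρ z (ρ z v) = v := fun v => by
    show (ρ z * ρ z) v = v
    rw [← map_mul, hz, map_one]
    rfl
  have hneg : ∀ v : V, ρ z v = -v := fun v => by
    by_contra hne
    exact hz1 (h z (ρ z v + v) (fun e => hne (eq_neg_of_add_eq_zero_left e)) (by rw [map_add, hsq, add_comm]))
  refine ⟨hneg, fun hq => ?_⟩
  obtain ⟨v, hv⟩ := exists_ne (0 : V)
  apply hz1
  refine h z v hv ?_
  rw [hneg, neg_eq_iff_add_eq_zero]
  have h2 : ((2 : ℕ) : ZMod q) • v = 0 := by rw [← hq, ZMod.natCast_self, zero_smul]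
  rwa [Nat.cast_smul_eq_nsmul, two_nsmul] at h2

omit [Finite V] [Finite G] in
theorem eq_of_involution (h : Fpf ρ) {z w : G} (hz : z * z = 1) (hz1 : z ≠ 1) (hw : w * w = 1) (hw1 : w ≠ 1) : z = w :=
  h.injective (LinearMap.ext fun v => by rw [(involution_neg h hz hz1).1, (involution_neg h hw hw1).1])

/-- The standard generators. -/
theorem quat_gens {Q : Subgroup G} (e : Q ≃* QuaternionGroup 2) :
    ∃ i j : G, i ∈ Q ∧ j ∈ Q ∧ i * i ≠ 1 ∧ (i * i) * (i * i) = 1 ∧ j * j = i * i ∧ j * i = (i * i) * (i * j) ∧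
      i * j ≠ j * i ∧ (∀ c ∈ Q, ∃ s t : ℕ, c = i ^ s * j ^ t) := by
  let qi : QuaternionGroup 2 := QuaternionGroup.a 1
  let qj : QuaternionGroup 2 := QuaternionGroup.xa 0
  have hq : qi * qi ≠ 1 ∧ (qi * qi) * (qi * qi) = 1 ∧ qj * qj = qi * qi ∧ qj * qi = (qi * qi) * (qi * qj) ∧
      qi * qj ≠ qj * qi ∧ ∀ c : QuaternionGroup 2, ∃ s : Fin 4, ∃ t : Fin 2, c = qi ^ s.val * qj ^ t.val := by
    decide +kernel
  obtain ⟨h1, h2, h3, h4, h5, h6⟩ := hq
  refine ⟨e.symm qi, e.symm qj, SetLike.coe_mem _, SetLike.coe_mem _, ?_, ?_, ?_, ?_, ?_, ?_⟩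
  · rw [← Subgroup.coe_mul, ← map_mul, ← Subgroup.coe_one (H := Q), Ne, Subtype.coe_inj, ← map_one e.symm,
      e.symm.injective.eq_iff]
    exact h1
  · rw [← Subgroup.coe_mul, ← map_mul, ← Subgroup.coe_mul, ← map_mul, h2, map_one, Subgroup.coe_one]
  · rw [← Subgroup.coe_mul, ← map_mul, ← Subgroup.coe_mul, ← map_mul, h3]
  · simp only [← Subgroup.coe_mul, ← map_mul]
    rw [h4]
  · simp only [← Subgroup.coe_mul, ← map_mul]
    rw [Ne, Subtype.coe_inj, e.symm.injective.eq_iff]
    exact h5
  · intro c hc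
    obtain ⟨s, t, hst⟩ := h6 (e ⟨c, hc⟩)
    refine ⟨s.val, t.val, ?_⟩
    have h7 : (⟨c, hc⟩ : Q) = e.symm (qi ^ s.val * qj ^ t.val) := by rw [← hst, e.symm_apply_apply]
    have h8 : c = ((e.symm (qi ^ s.val * qj ^ t.val) : Q) : G) := congrArg Subtype.val h7
    rw [h8, map_mul, map_pow, map_pow, Subgroup.coe_mul, Subgroup.coe_pow, Subgroup.coe_pow]

/-- The centraliser of a quaternion subgroup has no elements of order four. -/
theorem sq_eq_one_of_pow_four (h : Fpf ρ) {Q : Subgroup G} (e : Q ≃* QuaternionGroup 2) {x : G}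
    (hx : x ∈ Subgroup.centralizer (Q : Set G)) (hx4 : x ^ 4 = 1) : x * x = 1 := by
  by_contra hne
  obtain ⟨i, j, hiQ, hjQ, hi, hi4, -, -, hij, -⟩ := quat_gens e
  have hxi : Commute x i := (Subgroup.mem_centralizer_iff.mp hx i hiQ).symm
  let E : Subgroup G := Subgroup.closure {x, i}
  have hEc : IsMulCommutative E := Subgroup.isMulCommutative_closure (by
    rintro a (rfl | rfl) b (rfl | rfl)
    · rfl
    · exact hxi.eq
    · exact hxi.eq.symm
    · rfl)
  haveI := isCyclic_of_comm h E fun a ha b hb => congrArg Subtype.val (hEc.is_comm.comm ⟨a, ha⟩ ⟨b, hb⟩)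
  classical
  let xe : E := ⟨x, Subgroup.subset_closure (Or.inl rfl)⟩
  let ie : E := ⟨i, Subgroup.subset_closure (Or.inr rfl)⟩
  haveI : Fact (Nat.Prime 2) := ⟨Nat.prime_two⟩
  have ho : ∀ (y : E), (y : G) * y ≠ 1 → (y : G) ^ 4 = 1 → orderOf y = 4 := by
    intro y hy hy4
    refine orderOf_eq_prime_pow (p := 2) (n := 1) (fun e' => hy ?_) (Subtype.ext (by simpa using hy4))
    have := congrArg Subtype.val e'
    simpa [pow_two] using this
  have hox := ho xe hne hx4
  have hoi := ho ie hi (by simpa [pow_succ, mul_assoc] using hi4)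
  haveI : Fintype E := Fintype.ofFinite _
  have hiz : ie ∈ Subgroup.zpowers xe := by
    let S : Finset E := Finset.univ.filter (fun z => z ^ 4 = 1)
    have hsub : (Finset.univ.filter fun z => z ∈ Subgroup.zpowers xe) ⊆ S := by
      intro z hz
      simp only [Finset.mem_filter, Finset.mem_univ, true_and, S] at hz ⊢
      rw [← hox]
      exact orderOf_dvd_iff_pow_eq_one.mp (orderOf_dvd_of_mem_zpowers hz)
    have hcard : (Finset.univ.filter fun z => z ∈ Subgroup.zpowers xe).card = 4 := by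
      rw [← hox, ← Fintype.card_zpowers, Fintype.card_subtype]
    have heq := Finset.eq_of_subset_of_card_le hsub (by rw [hcard]; exact IsCyclic.card_pow_eq_one_le (by norm_num))
    have h1 : ie ∈ S := by
      simp only [Finset.mem_filter, Finset.mem_univ, true_and, S]
      rw [← hoi]; exact pow_orderOf_eq_one ie
    rw [← heq] at h1
    exact (Finset.mem_filter.mp h1).2
  obtain ⟨k, hk⟩ := Subgroup.mem_zpowers_iff.mp hiz
  have hk' : x ^ k = i := congrArg Subtype.val hk
  apply hij
  have hxj : Commute x j := (Subgroup.mem_centralizer_iff.mp hx j hjQ).symm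
  rw [← hk']
  exact (hxj.zpow_left k).eq

/-- The eigenspace decomposition. -/
theorem split (h : Fpf ρ) {Q : Subgroup G} (e : Q ≃* QuaternionGroup 2) :
    ∃ d, 0 < d ∧ Nat.card V = q ^ (2 * d) ∧ ∀ t ∈ Subgroup.centralizer (Q : Set G),
      (∃ P : (ZMod q)[X], P ≠ 0 ∧ P.natDegree ≤ d ∧ aeval (ρ t) P = 0) ∧
      orderOf t ∣ q ^ d - 1 ∧ (d = 1 → ∃ c : ZMod q, ∀ v, ρ t v = c • v) := by
  classical
  obtain ⟨i, j, hiQ, hjQ, hi, hi4, hjj, hji, hij, -⟩ := quat_gens e
  obtain ⟨hneg, hq2⟩ := involution_neg h hi4 hi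
  set I := ρ i with hI
  set J := ρ j with hJ
  have hII : ∀ v, I (I v) = -v := fun v => by
    show (ρ i * ρ i) v = -v
    rw [← map_mul, hneg]
  have hJJ : ∀ v, J (J v) = -v := fun v => by
    show (ρ j * ρ j) v = -v
    rw [← map_mul, hjj, hneg]
  have hJI : ∀ v, J (I v) = -I (J v) := fun v => by
    show (ρ j * ρ i) v = -(ρ i * ρ j) v
    rw [← map_mul, hji, map_mul]
    show ρ (i * i) (ρ (i * j) v) = _
    rw [hneg, map_mul]
  obtain ⟨a, b, hab⟩ := ZMod.sq_add_sq q (-1 : ZMod q)
  let u : Module.End (ZMod q) V := a • I + b • J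
  let K : Module.End (ZMod q) V := I * J
  have hu : ∀ v, u (u v) = v := fun v => by
    simp only [u, LinearMap.add_apply, LinearMap.smul_apply, map_add, map_smul, hII, hJJ, hJI]
    have : v = (-(a ^ 2 + b ^ 2)) • v := by rw [hab, neg_neg, one_smul]
    conv_rhs => rw [this]
    module
  have hKI : ∀ v, K (I v) = -I (K v) := fun v => by
    show I (J (I v)) = -I (I (J v))
    rw [hJI, map_neg]
  have hKJ : ∀ v, K (J v) = -J (K v) := fun v => by
    show I (J (J v)) = -J (I (J v))
    rw [hJJ, hJI (J v), hJJ, map_neg, neg_neg]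
  have hKu : ∀ v, K (u v) = -u (K v) := fun v => by
    simp only [u, LinearMap.add_apply, LinearMap.smul_apply, map_add, map_smul, hKI, hKJ]
    module
  have hKK : ∀ v, K (K v) = -v := fun v => by
    show I (J (I (J v))) = -v
    rw [hJI, map_neg, hII, neg_neg, hJJ]
  let W : Submodule (ZMod q) V := LinearMap.ker (u - 1)
  have hW : ∀ v, v ∈ W ↔ u v = v := fun v => by
    simp only [W, LinearMap.mem_ker, LinearMap.sub_apply, sub_eq_zero]
    rfl
  have h2 : (2 : ZMod q) ≠ 0 := by
    intro h0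
    have h1 : ((2 : ℕ) : ZMod q) = 0 := by exact_mod_cast h0
    rw [ZMod.natCast_eq_zero_iff] at h1
    exact hq2 ((Nat.prime_dvd_prime_iff_eq Fact.out Nat.prime_two).mp h1)
  have hbij : Function.Bijective (fun x : W × W => (x.1 : V) + K x.2) := by
    constructor
    · rintro ⟨⟨x, hx⟩, ⟨y, hy⟩⟩ ⟨⟨x', hx'⟩, ⟨y', hy'⟩⟩ he
      have he' : x + K y = x' + K y' := he
      rw [hW] at hx hy hx' hy'
      have h1 := congrArg u he'
      rw [map_add, map_add, hx, hx'] at h1
      have e1 : u (K y) = -K y := by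
        have := hKu y; rw [hy] at this; rw [eq_neg_iff_add_eq_zero] at this ⊢; rwa [add_comm] at this
      have e2 : u (K y') = -K y' := by
        have := hKu y'; rw [hy'] at this; rw [eq_neg_iff_add_eq_zero] at this ⊢; rwa [add_comm] at this
      rw [e1, e2] at h1
      have h3 : (2 : ZMod q) • (x - x') = 0 := by
        have : (2 : ZMod q) • (x - x') = (x + K y - (x' + K y')) + (x + -K y - (x' + -K y')) := by module
        rw [this, he', h1, sub_self, sub_self, add_zero]
      have h4 : x = x' := sub_eq_zero.mp ((smul_eq_zero.mp h3).resolve_left h2)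
      subst h4
      have h5 : K y = K y' := add_left_cancel he'
      have h6 := congrArg K h5
      rw [hKK, hKK, neg_inj] at h6
      subst h6
      rfl
    · intro v
      have hx : ((2 : ZMod q)⁻¹ • (v + u v)) ∈ W := by rw [hW, map_smul, map_add, hu, add_comm]
      have hy : (-(K ((2 : ZMod q)⁻¹ • (v - u v)))) ∈ W := by
        rw [hW, map_neg, neg_inj]
        have h7 := hKu ((2 : ZMod q)⁻¹ • (v - u v))
        rw [map_smul, map_sub, hu] at h7
        rw [eq_neg_iff_add_eq_zero] at h7
        rw [← sub_eq_zero, ← h7]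
        simp only [map_smul, map_sub]
        module
      refine ⟨(⟨_, hx⟩, ⟨_, hy⟩), ?_⟩
      show (2 : ZMod q)⁻¹ • (v + u v) + K (-(K ((2 : ZMod q)⁻¹ • (v - u v)))) = v
      rw [map_neg, hKK, neg_neg]
      have : v = ((2 : ZMod q)⁻¹ * 2) • v := by rw [inv_mul_cancel₀ h2, one_smul]
      conv_rhs => rw [this]
      module
  set d := Module.finrank (ZMod q) W with hd
  have hWcard : Nat.card W = q ^ d := by rw [Module.natCard_eq_pow_finrank (K := ZMod q), Nat.card_zmod]
  have hV : Nat.card V = q ^ (2 * d) := by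
    rw [← Nat.card_congr (Equiv.ofBijective _ hbij), Nat.card_prod, hWcard, two_mul, pow_add]
  have hd0 : 0 < d := by
    by_contra h0
    rw [show d = 0 by omega, mul_zero, pow_zero] at hV
    exact absurd hV (Finite.one_lt_card (α := V)).ne'
  refine ⟨d, hd0, hV, fun t ht => ?_⟩
  have hci : ∀ v, ρ t (I v) = I (ρ t v) := fun v => by
    show (ρ t * ρ i) v = (ρ i * ρ t) v
    rw [← map_mul, ← map_mul, Subgroup.mem_centralizer_iff.mp ht i hiQ]
  have hcj : ∀ v, ρ t (J v) = J (ρ t v) := fun v => by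
    show (ρ t * ρ j) v = (ρ j * ρ t) v
    rw [← map_mul, ← map_mul, Subgroup.mem_centralizer_iff.mp ht j hjQ]
  have hcK : ∀ v, ρ t (K v) = K (ρ t v) := fun v => by
    show ρ t (I (J v)) = I (J (ρ t v))
    rw [hci, hcj]
  have hTW : ∀ v ∈ W, ρ t v ∈ W := fun v hv => by
    rw [hW] at hv ⊢
    conv_rhs => rw [← hv]
    simp only [u, LinearMap.add_apply, LinearMap.smul_apply, map_add, map_smul, hci, hcj]
  let T' : Module.End (ZMod q) W := (ρ t).restrict hTW
  have hpoly : ∀ (p : (ZMod q)[X]) (w : W), (aeval (ρ t) p) (w : V) = ((aeval T' p w : W) : V) := by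
    intro p
    induction p using Polynomial.induction_on' with
    | add a b ha hb => intro w; simp only [map_add, LinearMap.add_apply, ha, hb, Submodule.coe_add]
    | monomial n a =>
      intro w
      have hp : ∀ n : ℕ, ∀ w : W, (ρ t ^ n) (w : V) = (((T' ^ n) w : W) : V) := by
        intro n
        induction n with
        | zero => intro w; rfl
        | succ n ih =>
          intro w
          rw [pow_succ', pow_succ', Module.End.mul_apply, Module.End.mul_apply, ih]
          rfl
      simp only [aeval_monomial, Module.End.mul_apply, Module.algebraMap_end_apply, hp, Submodule.coe_smul]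
  refine ⟨⟨T'.charpoly, T'.charpoly_monic.ne_zero, T'.charpoly_natDegree.le, ?_⟩, ?_, ?_⟩
  · refine LinearMap.ext fun v => ?_
    obtain ⟨⟨x, y⟩, rfl⟩ := hbij.2 v
    have hc : ∀ p : (ZMod q)[X], ∀ w : V, (aeval (ρ t) p) (K w) = K ((aeval (ρ t) p) w) := by
      intro p
      induction p using Polynomial.induction_on' with
      | add a b ha hb => intro w; simp only [map_add, LinearMap.add_apply, ha, hb]
      | monomial n a =>
        intro w
        have hp : ∀ n : ℕ, ∀ w : V, (ρ t ^ n) (K w) = K ((ρ t ^ n) w) := by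
          intro n
          induction n with
          | zero => intro w; rfl
          | succ n ih =>
            intro w
            rw [pow_succ', Module.End.mul_apply (ρ t) (ρ t ^ n), Module.End.mul_apply (ρ t) (ρ t ^ n), ih, hcK]
        simp only [aeval_monomial, Module.End.mul_apply, Module.algebraMap_end_apply, hp, map_smul]
    simp only [map_add, hc, hpoly, LinearMap.aeval_self_charpoly, LinearMap.zero_apply, Submodule.coe_zero, map_zero,
      add_zero]
  · let X := {w : W // w ≠ 0}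
    have hmem : ∀ (g : Subgroup.zpowers t) (v : V), v ∈ W → ρ (g : G) v ∈ W := by
      rintro ⟨g, hg⟩ v hv
      obtain ⟨n, rfl⟩ := mem_powers_iff_mem_zpowers.mpr hg
      show ρ (t ^ n) v ∈ W
      induction n with
      | zero => rw [pow_zero, map_one]; exact hv
      | succ n ih => rw [pow_succ', map_mul]; exact hTW _ (ih (Subgroup.pow_mem _ (Subgroup.mem_zpowers t) n))
    letI : MulAction (Subgroup.zpowers t) X :=
      { smul := fun g w => ⟨⟨ρ (g : G) (w.1 : V), hmem g _ w.1.2⟩, fun he => w.2 (Subtype.ext (by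
          have h1 : ρ (g : G) (w.1 : V) = 0 := congrArg Subtype.val he
          have h2 := apply_inv_self (ρ := ρ) (g : G) (w.1 : V)
          rw [h1, map_zero] at h2
          exact h2.symm))⟩
        one_smul := fun w => Subtype.ext (Subtype.ext (by
          show ρ ((1 : Subgroup.zpowers t) : G) (w.1 : V) = _
          rw [Subgroup.coe_one, map_one]
          rfl))
        mul_smul := fun g g' w => Subtype.ext (Subtype.ext (by
          show ρ ((g * g' : Subgroup.zpowers t) : G) (w.1 : V) = ρ (g : G) (ρ (g' : G) (w.1 : V))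
          rw [Subgroup.coe_mul, map_mul]
          rfl)) }
    have hfree : ∀ w : X, MulAction.stabilizer (Subgroup.zpowers t) w = ⊥ := by
      intro w
      rw [Subgroup.eq_bot_iff_forall]
      intro g hg
      exact Subtype.ext (h g (w.1 : V) (fun he => w.2 (Subtype.ext he)) (congrArg (fun w : X => (w.1 : V)) hg))
    have h1 := Nat.card_congr (MulAction.selfEquivOrbitsQuotientProd hfree)
    rw [Nat.card_prod, Nat.card_zpowers] at h1
    have h2 : Nat.card X = q ^ d - 1 := by
      haveI := Fintype.ofFinite W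
      rw [Nat.card_eq_fintype_card, Fintype.card_subtype_compl, Fintype.card_subtype_eq, ← Nat.card_eq_fintype_card,
        hWcard]
    rw [← h2, h1]
    exact Dvd.intro_left _ rfl
  · intro hd1
    obtain ⟨w0, hw0, hspan⟩ := finrank_eq_one_iff'.mp (hd.symm.trans hd1)
    obtain ⟨c, hc⟩ := hspan (T' w0)
    refine ⟨c, fun v => ?_⟩
    have hT : ∀ w : W, ρ t (w : V) = c • (w : V) := fun w => by
      obtain ⟨r, rfl⟩ := hspan w
      have h1 : ρ t (w0 : V) = c • (w0 : V) := by
        show ((T' w0 : W) : V) = _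
        rw [← hc]
        rfl
      rw [Submodule.coe_smul, map_smul, h1, smul_comm]
    obtain ⟨⟨x, y⟩, rfl⟩ := hbij.2 v
    simp only [map_add, hcK, hT, map_smul, smul_add]

omit [Finite V] [Nontrivial V] in
/-- The automorphisms induced on a normal quaternion subgroup. -/
theorem index_centralizer_dvd {Q : Subgroup G} [Q.Normal] (e : Q ≃* QuaternionGroup 2) :
    (Subgroup.centralizer (Q : Set G)).index ∣ 24 := by
  classical
  let X := {p : Q × Q // p.1 * p.1 ≠ 1 ∧ p.2 * p.2 ≠ 1 ∧ p.1 * p.2 ≠ p.2 * p.1}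
  have hX : Nat.card X = 24 := by
    have e' : X ≃ {p : QuaternionGroup 2 × QuaternionGroup 2 //
        p.1 * p.1 ≠ 1 ∧ p.2 * p.2 ≠ 1 ∧ p.1 * p.2 ≠ p.2 * p.1} :=
      Equiv.subtypeEquiv (Equiv.prodCongr e.toEquiv e.toEquiv) (fun p => by
        simp only [Equiv.prodCongr_apply, Prod.map_fst, Prod.map_snd, MulEquiv.toEquiv_eq_coe, EquivLike.coe_coe, ← map_mul, ne_eq,
          EmbeddingLike.apply_eq_iff_eq, EmbeddingLike.map_eq_one_iff])
    rw [Nat.card_congr e', Nat.card_eq_fintype_card]
    decide +kernel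
  let cj : G →* MulAut Q := MulAut.conjNormal
  letI : MulAction cj.range X :=
    { smul := fun g p => ⟨((g : MulAut Q) p.1.1, (g : MulAut Q) p.1.2), by
        refine ⟨?_, ?_, ?_⟩
        · rw [← map_mul, Ne, EmbeddingLike.map_eq_one_iff]; exact p.2.1
        · rw [← map_mul, Ne, EmbeddingLike.map_eq_one_iff]; exact p.2.2.1
        · rw [← map_mul, ← map_mul, Ne, EmbeddingLike.apply_eq_iff_eq]; exact p.2.2.2⟩
      one_smul := fun p => rfl
      mul_smul := fun g g' p => rfl }
  have hgen : ∀ a b : Q, a * a ≠ 1 → b * b ≠ 1 → a * b ≠ b * a → ∀ c : Q, ∃ s : Fin 4, ∃ t : Fin 2, c = a ^ s.val * b ^ t.val := by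
    intro a b ha hb hab c
    have key : ∀ a b : QuaternionGroup 2, a * a ≠ 1 → b * b ≠ 1 → a * b ≠ b * a →
        ∀ c : QuaternionGroup 2, ∃ s : Fin 4, ∃ t : Fin 2, c = a ^ s.val * b ^ t.val := by decide +kernel
    obtain ⟨s, t, hst⟩ := key (e a) (e b) (by rwa [← map_mul, Ne, EmbeddingLike.map_eq_one_iff])
      (by rwa [← map_mul, Ne, EmbeddingLike.map_eq_one_iff]) (by rwa [← map_mul, ← map_mul, Ne, EmbeddingLike.apply_eq_iff_eq]) (e c)
    exact ⟨s, t, e.injective (by rw [hst, map_mul, map_pow, map_pow])⟩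
  have hfree : ∀ p : X, MulAction.stabilizer cj.range p = ⊥ := by
    intro p
    rw [Subgroup.eq_bot_iff_forall]
    intro g hg
    apply Subtype.ext
    refine MulEquiv.ext fun c => ?_
    have h1 : (g : MulAut Q) p.1.1 = p.1.1 := congrArg (fun p : X => p.1.1) hg
    have h2 : (g : MulAut Q) p.1.2 = p.1.2 := congrArg (fun p : X => p.1.2) hg
    obtain ⟨s, t, rfl⟩ := hgen _ _ p.2.1 p.2.2.1 p.2.2.2 c
    rw [map_mul, map_pow, map_pow, h1, h2]
    rfl
  have hker : cj.ker = Subgroup.centralizer (Q : Set G) := by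
    ext g
    rw [MonoidHom.mem_ker, Subgroup.mem_centralizer_iff]
    constructor
    · intro hg c hc
      have h1 := congrArg Subtype.val (DFunLike.congr_fun hg (⟨c, hc⟩ : Q))
      simp only [cj, MulAut.conjNormal_apply, MulAut.one_apply] at h1
      exact (mul_inv_eq_iff_eq_mul.mp h1).symm
    · intro hg
      refine MulEquiv.ext fun c => Subtype.ext ?_
      simp only [cj, MulAut.conjNormal_apply, MulAut.one_apply]
      rw [← hg c c.2, mul_inv_cancel_right]
  have h1 := Nat.card_congr (MulAction.selfEquivOrbitsQuotientProd hfree)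
  rw [hX, Nat.card_prod] at h1
  rw [← hker, Subgroup.index_ker, h1]
  exact Dvd.intro_left _ rfl

end CfsgLib.Recognition.NearField
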