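import Mathlib

/-!
A group of order 24 with a self-centralising normal quaternion subgroup is `SL(2,3)`.
-/

namespace CfsgLib.Recognition.NearField.SL23

/-- Normal forms. -/
abbrev T := Fin 4 × Fin 2 × Fin 3

/-- Right multiplication by the first quaternion generator. -/
def stepI (s : T) : T :=
  if s.2.2 = 0 then (if s.2.1 = 0 then (s.1 + 1, s.2) else (s.1 + 3, s.2))
  else if s.2.2 = 1 then (if s.2.1 = 0 then (s.1, 1, 1) else (s.1 + 2, 0, 1))
  else (if s.2.1 = 0 then (s.1 + 1, 1, 2) else (s.1 + 1, 0, 2))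

/-- Right multiplication by the second quaternion generator. -/
def stepJ (s : T) : T :=
  if s.2.2 = 0 then (if s.2.1 = 0 then (s.1, 1, 0) else (s.1 + 2, 0, 0))
  else if s.2.2 = 1 then (if s.2.1 = 0 then (s.1 + 1, 1, 1) else (s.1 + 1, 0, 1))
  else (if s.2.1 = 0 then (s.1 + 1, 0, 2) else (s.1 + 3, 1, 2))

/-- Right multiplication by the element of order three. -/
def stepX (s : T) : T := (s.1, s.2.1, s.2.2 + 1)

/-- The product of normal forms. -/
def mulT (s t : T) : T := stepX^[t.2.2.val] (stepJ^[t.2.1.val] (stepI^[t.1.val] s))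

/-- The relations. -/
structure Rels {S : Type*} [Group S] (x i j : S) : Prop where
  hx : x ^ 3 = 1
  hi : i ^ 4 = 1
  hj : j * j = i * i
  hji : j * i = i ^ 3 * j
  hxi : x * i = j * x
  hxj : x * j = i * j * x

variable {S : Type*} [Group S] {x i j : S}

/-- The word of a normal form. -/
def word (x i j : S) (s : T) : S := i ^ s.1.val * j ^ s.2.1.val * x ^ s.2.2.val

theorem Rels.ipow (h : Rels x i j) (a : ℕ) : i ^ a = i ^ (a % 4) := pow_eq_pow_mod a h.hi

theorem Rels.word_stepX (h : Rels x i j) (s : T) : word x i j (stepX s) = word x i j s * x := by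
  obtain ⟨a, b, c⟩ := s
  simp only [word, stepX, Fin.val_add, mul_assoc, ← pow_succ]
  congr 2
  exact (pow_eq_pow_mod _ h.hx).symm

theorem Rels.word_stepI (h : Rels x i j) (s : T) : word x i j (stepI s) = word x i j s * i := by
  obtain ⟨a, b, c⟩ := s
  have h2 : x * x * i = i * j * (x * x) := by
    rw [mul_assoc, h.hxi, ← mul_assoc, h.hxj, mul_assoc]
  have h3 : j * (i * j) = i := by
    rw [← mul_assoc, h.hji, mul_assoc, h.hj, ← mul_assoc, ← pow_succ, ← pow_succ, h.ipow]
    simp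
  have hjj : j * j = i ^ 2 := by rw [h.hj, pow_two]
  fin_cases b <;> fin_cases c <;> simp [word, stepI, Fin.val_add, ← pow_succ, pow_two, mul_assoc]
  · exact (h.ipow _).symm
  · rw [h.hxi]
  · rw [← mul_assoc x x i, h2, ← h.ipow, pow_succ]
    simp only [mul_assoc]
  · rw [h.hji, ← mul_assoc, ← pow_add, ← h.ipow]
  · rw [h.hxi, ← mul_assoc j j, hjj, ← mul_assoc, ← pow_add, ← h.ipow]
  · rw [← mul_assoc x x i, h2, ← mul_assoc j, h3, ← h.ipow, pow_succ]
    simp only [mul_assoc]

theorem Rels.word_stepJ (h : Rels x i j) (s : T) : word x i j (stepJ s) = word x i j s * j := by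
  obtain ⟨a, b, c⟩ := s
  have hjj : j * j = i ^ 2 := by rw [h.hj, pow_two]
  have h3 : j * (i * j) = i := by
    rw [← mul_assoc, h.hji, mul_assoc, h.hj, ← mul_assoc, ← pow_succ, ← pow_succ, h.ipow]
    simp
  have h2 : x * x * j = i * (x * x) := by
    rw [mul_assoc, h.hxj, ← mul_assoc, ← mul_assoc, h.hxi, mul_assoc j x j, h.hxj, ← mul_assoc, h3, mul_assoc]
  fin_cases b <;> fin_cases c <;> simp [word, stepJ, Fin.val_add, ← pow_succ, pow_two, mul_assoc]
  · rw [h.hxj, ← h.ipow, pow_succ]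
    simp only [mul_assoc]
  · rw [← mul_assoc x x j, h2, ← h.ipow, pow_succ]
    simp only [mul_assoc]
  · rw [hjj, ← pow_add, ← h.ipow]
  · rw [h.hxj, ← mul_assoc j, h3, ← h.ipow, pow_succ]
    simp only [mul_assoc]
  · rw [← mul_assoc x x j, h2, ← mul_assoc j i, h.hji, ← h.ipow]
    simp only [pow_add, mul_assoc]

theorem Rels.word_mul (h : Rels x i j) (s t : T) : word x i j (mulT s t) = word x i j s * word x i j t := by
  have it : ∀ (f : T → T) (g : S), (∀ r, word x i j (f r) = word x i j r * g) →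
      ∀ n r, word x i j (f^[n] r) = word x i j r * g ^ n := by
    intro f g hf n
    induction n with
    | zero => intro r; simp
    | succ n ih => intro r; rw [Function.iterate_succ_apply', hf, ih, mul_assoc, pow_succ]
  rw [mulT, it _ _ h.word_stepX, it _ _ h.word_stepJ, it _ _ h.word_stepI, word, word]
  simp only [mul_assoc]

theorem quat_facts : ∀ a b : QuaternionGroup 2, a * a ≠ 1 → b * b ≠ 1 → a * b ≠ b * a →
    a ^ 4 = 1 ∧ b * b = a * a ∧ b * a = a ^ 3 * b ∧
    (∀ c : QuaternionGroup 2, c * c ≠ 1 → c = a ∨ c = a ^ 3 ∨ c = b ∨ c = b ^ 3 ∨ c = a * b ∨ c = a ^ 3 * b) ∧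
    (∀ c : QuaternionGroup 2, ∃ s : Fin 4, ∃ t : Fin 2, c = a ^ s.val * b ^ t.val) := by decide +kernel

theorem quat_order_four : ∀ a : QuaternionGroup 2, a * a ≠ 1 →
    a ^ 3 ≠ a ∧ ∃ b : QuaternionGroup 2, b * b ≠ 1 ∧ a * b ≠ b * a ∧
      ∀ c : QuaternionGroup 2, c * c ≠ 1 → c = a ∨ c = a ^ 3 ∨ ∃ s : Fin 4, c = a ^ s.val * b := by decide +kernel

variable [Finite S]

/-- Generators with the standard relations. -/
theorem exists_rels (Q : Subgroup S) [Q.Normal] (hQ : Nonempty (Q ≃* QuaternionGroup 2)) (hcard : Nat.card S = 24)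
    (hC : Subgroup.centralizer (Q : Set S) ≤ Q) :
    ∃ x i j : S, Rels x i j ∧ Function.Bijective (word x i j) := by
  obtain ⟨e⟩ := hQ
  have hQcard : Nat.card Q = 8 := by rw [Nat.card_congr e.toEquiv, Nat.card_eq_fintype_card]; decide
  haveI : Fact (Nat.Prime 3) := ⟨Nat.prime_three⟩
  obtain ⟨x, hx⟩ := exists_prime_orderOf_dvd_card' (G := S) 3 (by rw [hcard]; norm_num)
  have hxQ : x ∉ Q := by
    intro h
    have h1 := orderOf_dvd_natCard (⟨x, h⟩ : Q)
    rw [hQcard, ← Subgroup.orderOf_coe, hx] at h1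
    norm_num at h1
  let σ : MulAut Q := MulAut.conjNormal x
  have hσ3 : ∀ c : Q, σ (σ (σ c)) = c := by
    intro c
    apply Subtype.ext
    simp only [σ, MulAut.conjNormal_apply]
    have h3 : x * x * x = 1 := by
      rw [← pow_two, ← pow_succ]
      exact orderOf_dvd_iff_pow_eq_one.mp (by rw [hx])
    calc x * (x * (x * c * x⁻¹) * x⁻¹) * x⁻¹ = (x * x * x) * c * (x * x * x)⁻¹ := by group
      _ = c := by rw [h3]; group
  let τ : MulAut (QuaternionGroup 2) := e.symm.trans (σ.trans e)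
  have hτ3 : ∀ c, τ (τ (τ c)) = c := fun c => by simp [τ, hσ3]
  have hord : ∀ c, c * c ≠ 1 → τ c * τ c ≠ 1 := fun c hc h => hc (τ.injective (by rw [map_mul, h, map_one]))
  have hfix : ∀ a : QuaternionGroup 2, a * a ≠ 1 → τ a ≠ a ∧ τ a ≠ a ^ 3 := by
    intro a ha
    obtain ⟨ha3, b, hb, hab, hall⟩ := quat_order_four a ha
    have hne : τ a ≠ a := by
      intro h
      have hb' : τ b = b := by
        rcases hall (τ b) (hord b hb) with h1 | h1 | ⟨s, h1⟩
        · exact absurd (τ.injective (h1.trans h.symm)) (fun e' => hab (by rw [e']))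
        · exfalso
          have h2 : τ (a ^ 3) = a ^ 3 := by rw [map_pow, h]
          exact hab (by rw [τ.injective (h1.trans h2.symm)]; exact ((Commute.refl a).pow_right 3).eq)
        · have h2 : ∀ k : ℕ, τ (a ^ k * b) = a ^ (k + s.val) * b := fun k => by
            rw [map_mul, map_pow, h, h1, ← mul_assoc, ← pow_add]
          have h3 := hτ3 b
          rw [h1, h2, h2] at h3
          have h4 : a ^ (s.val + s.val + s.val) = 1 := mul_eq_right.mp h3
          have : s = 0 := (by decide +kernel : ∀ (a : QuaternionGroup 2), ∀ s : Fin 4, a * a ≠ 1 → a ^ (s.val + s.val + s.val) = 1 → s = 0) a s ha h4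
          rw [h1, this]
          simp
      apply hxQ
      apply hC
      refine Subgroup.mem_centralizer_iff.mpr fun c hc => ?_
      obtain ⟨s, t, hst⟩ := (quat_facts a b ha hb hab).2.2.2.2 (e ⟨c, hc⟩)
      have h1 : τ (e ⟨c, hc⟩) = e ⟨c, hc⟩ := by rw [hst, map_mul, map_pow, map_pow, h, hb']
      have h2 : σ ⟨c, hc⟩ = ⟨c, hc⟩ := e.injective (by simpa [τ] using h1)
      have h3 : x * c * x⁻¹ = c := congrArg Subtype.val h2
      exact (mul_inv_eq_iff_eq_mul.mp h3).symm
    refine ⟨hne, fun h => ha3 ?_⟩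
    have h3 := hτ3 a
    rw [h, map_pow, h, ← pow_mul, map_pow, h, ← pow_mul] at h3
    have h4 : a ^ 4 = 1 := (quat_facts a b ha hb hab).1
    rw [show 3 * (3 * 3) = 4 * 6 + 3 from rfl, pow_add, pow_mul, h4, one_pow, one_mul] at h3
    exact h3
  obtain ⟨a, ha⟩ : ∃ a : QuaternionGroup 2, a * a ≠ 1 := ⟨QuaternionGroup.a 1, by decide⟩
  -- choose the sign of the first generator
  have key : ∀ a : QuaternionGroup 2, a * a ≠ 1 → a * τ a ≠ τ a * a ∧ (τ (τ a) = a * τ a ∨ τ (τ a) = a ^ 3 * τ a) := by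
    intro a ha
    have hb := hord a ha
    obtain ⟨ha3, b0, hb0, hab0, hall⟩ := quat_order_four a ha
    obtain ⟨hf1, hf2⟩ := hfix a ha
    obtain ⟨hg1, hg2⟩ := hfix (τ a) hb
    have hab : a * τ a ≠ τ a * a := by
      rcases hall (τ a) hb with h | h | ⟨s, h⟩
      · exact absurd h hf1
      · exact absurd h hf2
      · rw [h]
        intro hc
        apply hab0
        rw [← mul_assoc, ← pow_succ', pow_succ, mul_assoc, mul_assoc] at hc
        exact mul_left_cancel hc
    refine ⟨hab, ?_⟩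
    rcases (quat_facts a (τ a) ha hb hab).2.2.2.1 (τ (τ a)) (hord _ hb) with h | h | h | h | h | h
    · exfalso
      have := hτ3 a
      rw [h] at this
      exact hf1 this
    · exfalso
      have := hτ3 a
      rw [h, map_pow] at this
      exact hab (by nth_rewrite 1 [← this]; nth_rewrite 4 [← this]; exact ((Commute.refl (τ a)).pow_left 3).eq)
    · exact absurd h hg1
    · exact absurd h hg2
    · exact Or.inl h
    · exact Or.inr h
  obtain ⟨a, ha, hab, haab⟩ : ∃ a : QuaternionGroup 2, a * a ≠ 1 ∧ a * τ a ≠ τ a * a ∧ τ (τ a) = a * τ a := by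
    obtain ⟨hab, h | h⟩ := key a ha
    · exact ⟨a, ha, hab, h⟩
    · have ha3 : a ^ 3 * a ^ 3 ≠ 1 :=
        (by decide +kernel : ∀ a : QuaternionGroup 2, a * a ≠ 1 → a ^ 3 * a ^ 3 ≠ 1) a ha
      refine ⟨a ^ 3, ha3, (key _ ha3).1, ?_⟩
      rw [map_pow, map_pow, h]
      exact (by decide +kernel : ∀ a b : QuaternionGroup 2, a * a ≠ 1 → b * b ≠ 1 → a * b ≠ b * a →
        (a ^ 3 * b) ^ 3 = a ^ 3 * b ^ 3) a (τ a) ha (hord a ha) hab
  obtain ⟨h4, hjj, hji, -, hgen⟩ := quat_facts a (τ a) ha (hord a ha) hab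
  set i : S := ((e.symm a : Q) : S) with hi_def
  set j : S := ((e.symm (τ a) : Q) : S) with hj_def
  have hjx : x * i * x⁻¹ = j := by
    rw [hj_def, hi_def]
    simp [τ, σ, MulAut.conjNormal_apply]
  have hrels : Rels x i j := by
    refine ⟨?_, ?_, ?_, ?_, ?_, ?_⟩
    · rw [← hx, pow_orderOf_eq_one]
    · rw [hi_def, ← Subgroup.coe_pow, ← map_pow, h4, map_one, Subgroup.coe_one]
    · rw [hi_def, hj_def, ← Subgroup.coe_mul, ← map_mul, hjj, map_mul, Subgroup.coe_mul]
    · rw [hi_def, hj_def, ← Subgroup.coe_mul, ← map_mul, hji, map_mul, map_pow, Subgroup.coe_mul, Subgroup.coe_pow]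
    · rw [← hjx, inv_mul_cancel_right]
    · have h5 : x * j * x⁻¹ = i * j := by
        rw [hi_def, hj_def, ← Subgroup.coe_mul, ← map_mul, ← haab]
        simp [τ, σ, MulAut.conjNormal_apply]
      rw [← h5, inv_mul_cancel_right]
  refine ⟨x, i, j, hrels, ?_⟩
  let W : Subgroup S :=
    Subgroup.closure (Set.range (word x i j))
  have hclosed : ∀ g ∈ W, g ∈ Set.range (word x i j) := by
    intro g hg
    have hg' : g ∈ Submonoid.closure (Set.range (word x i j)) := by
      rw [← Subgroup.closure_toSubmonoid_of_finite]; exact hg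
    induction hg' using Submonoid.closure_induction with
    | mem y hy => exact hy
    | one => exact ⟨(0, 0, 0), by simp [word]⟩
    | mul y z hy hz ihy ihz =>
      obtain ⟨s, rfl⟩ := ihy (by rw [← Subgroup.closure_toSubmonoid_of_finite] at hy; exact hy)
      obtain ⟨t, rfl⟩ := ihz (by rw [← Subgroup.closure_toSubmonoid_of_finite] at hz; exact hz)
      exact ⟨mulT s t, hrels.word_mul s t⟩
  have hQW : Q ≤ W := by
    intro c hc
    obtain ⟨s, t, hst⟩ := hgen (e ⟨c, hc⟩)
    refine Subgroup.subset_closure ⟨(s, t, 0), ?_⟩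
    have h5 : (⟨c, hc⟩ : Q) = e.symm (a ^ s.val * τ a ^ t.val) := by rw [← hst, e.symm_apply_apply]
    have h6 : c = ((e.symm (a ^ s.val * τ a ^ t.val) : Q) : S) := congrArg Subtype.val h5
    rw [h6]
    simp [word, map_mul, map_pow, hi_def, hj_def]
  have hxW : x ∈ W := Subgroup.subset_closure ⟨(0, 0, 1), by simp [word]⟩
  have hWtop : W = ⊤ := by
    have h8 : 8 ∣ Nat.card W := hQcard ▸ Subgroup.card_dvd_of_le hQW
    have h3 : 3 ∣ Nat.card W := by
      have hd := orderOf_dvd_natCard (⟨x, hxW⟩ : W)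
      rw [← Subgroup.orderOf_coe] at hd
      exact hx ▸ hd
    have h24 : 24 ∣ Nat.card W := Nat.Coprime.mul_dvd_of_dvd_of_dvd (by norm_num : Nat.Coprime 8 3) h8 h3
    exact Subgroup.eq_top_of_le_card W (by rw [hcard]; exact Nat.le_of_dvd Nat.card_pos h24)
  rw [Nat.bijective_iff_surjective_and_card]
  exact ⟨fun g => hclosed g (hWtop ▸ Subgroup.mem_top g), by rw [hcard, Nat.card_eq_fintype_card]; rfl⟩

/-- The model generators. -/
def mx : Matrix.SpecialLinearGroup (Fin 2) (ZMod 3) := ⟨!![1, 1; 0, 1], by decide⟩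

/-- The model generators. -/
def mi : Matrix.SpecialLinearGroup (Fin 2) (ZMod 3) := ⟨!![0, 2; 1, 0], by decide⟩

/-- The model generators. -/
def mj : Matrix.SpecialLinearGroup (Fin 2) (ZMod 3) := mx * mi * mx⁻¹

theorem mulEquiv_sl (Q : Subgroup S) [Q.Normal] (hQ : Nonempty (Q ≃* QuaternionGroup 2)) (hcard : Nat.card S = 24)
    (hC : Subgroup.centralizer (Q : Set S) ≤ Q) :
    Nonempty (S ≃* Matrix.SpecialLinearGroup (Fin 2) (ZMod 3)) := by
  haveI : Fact (Nat.Prime 3) := ⟨Nat.prime_three⟩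
  obtain ⟨x, i, j, h, hb⟩ := exists_rels Q hQ hcard hC
  obtain ⟨x', i', j', h', hinj'⟩ : ∃ x' i' j' : Matrix.SpecialLinearGroup (Fin 2) (ZMod 3),
      Rels x' i' j' ∧ Function.Injective (word x' i' j') := by
    exact ⟨mx, mi, mj, ⟨by decide +kernel, by decide +kernel, by decide +kernel, by decide +kernel,
      by rw [mj, inv_mul_cancel_right], by decide +kernel⟩, by decide +kernel⟩
  have hcard' : Nat.card (Matrix.SpecialLinearGroup (Fin 2) (ZMod 3)) = 24 := by
    rw [Nat.card_eq_fintype_card]; decide +kernel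
  have hb' : Function.Bijective (word x' i' j') := by
    rw [Nat.bijective_iff_injective_and_card]
    exact ⟨hinj', by rw [hcard', Nat.card_eq_fintype_card]; rfl⟩
  let e1 := Equiv.ofBijective _ hb
  let e2 := Equiv.ofBijective _ hb'
  refine ⟨{ toEquiv := e1.symm.trans e2, map_mul' := fun s t => ?_ }⟩
  have h1 : e1 (mulT (e1.symm s) (e1.symm t)) = s * t := by
    show word x i j _ = _
    rw [h.word_mul]
    show e1 (e1.symm s) * e1 (e1.symm t) = s * t
    rw [e1.apply_symm_apply, e1.apply_symm_apply]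
  show e2 (e1.symm (s * t)) = e2 (e1.symm s) * e2 (e1.symm t)
  rw [← h1, e1.symm_apply_apply]
  exact h'.word_mul _ _

end CfsgLib.Recognition.NearField.SL23
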