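import Mathlib

/-!
Normal subgroups of index two.
-/

namespace CfsgLib.Recognition.NearField.IndexTwo

variable {G : Type*} [Group G] [Finite G]

/-- A finite abelian group of even order has a subgroup of index two. -/
theorem exists_comm {A : Type*} [CommGroup A] [Finite A] (h : 2 ∣ Nat.card A) : ∃ M : Subgroup A, M.index = 2 := by
  classical
  haveI : Fact (Nat.Prime 2) := ⟨Nat.prime_two⟩
  obtain ⟨a, ha⟩ := exists_prime_orderOf_dvd_card' 2 h
  let sq : A →* A := powMonoidHom 2
  have hne : sq.range ≠ ⊤ := by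
    intro htop
    have hs : Function.Surjective sq := MonoidHom.range_eq_top.mp htop
    have hi := Finite.injective_iff_surjective.mpr hs
    have h1 : sq a = sq 1 := by
      simp only [sq, powMonoidHom_apply, one_pow]
      rw [← ha, pow_orderOf_eq_one]
    rw [hi h1, orderOf_one] at ha
    norm_num at ha
  haveI : Finite (Subgroup A) := Finite.of_injective (fun H : Subgroup A => (H : Set A)) SetLike.coe_injective
  obtain ⟨M, hM, hle⟩ := (eq_top_or_exists_le_coatom sq.range).resolve_left hne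
  refine ⟨M, ?_⟩
  obtain ⟨b, hb⟩ : ∃ b, b ∉ M := by
    by_contra hall
    push_neg at hall
    exact hM.1 (eq_top_iff.mpr fun x _ => hall x)
  refine Subgroup.index_eq_two_iff.mpr ⟨b, fun x => ?_⟩
  have htop : M ⊔ Subgroup.zpowers b = ⊤ := hM.2 _ (left_lt_sup.mpr fun hle' => hb (hle' (Subgroup.mem_zpowers b)))
  have hbb : b * b ∈ M := hle ⟨b, by simp [sq, pow_two]⟩
  have hx : x ∈ M ⊔ Subgroup.zpowers b := htop ▸ Subgroup.mem_top x
  obtain ⟨m, hm, c, hc, rfl⟩ := Subgroup.mem_sup.mp hx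
  obtain ⟨n, rfl⟩ := Subgroup.mem_zpowers_iff.mp hc
  rcases Int.even_or_odd' n with ⟨k, rfl | rfl⟩
  · have h2 : b ^ (2 * k) ∈ M := by rw [zpow_mul, zpow_two]; exact M.zpow_mem hbb k
    refine Or.inr ⟨M.mul_mem hm h2, fun h3 => ?_⟩
    exact hb ((M.mul_mem_cancel_left (M.mul_mem hm h2)).mp h3)
  · have h2 : b ^ (2 * k) ∈ M := by rw [zpow_mul, zpow_two]; exact M.zpow_mem hbb k
    refine Or.inl ⟨?_, fun h3 => ?_⟩
    · rw [zpow_add, zpow_one, show m * (b ^ (2 * k) * b) * b = m * b ^ (2 * k) * (b * b) by simp only [mul_assoc]]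
      exact M.mul_mem (M.mul_mem hm h2) hbb
    · rw [zpow_add, zpow_one, ← mul_assoc] at h3
      exact hb ((M.mul_mem_cancel_left (M.mul_mem hm h2)).mp h3)

theorem exists_of_hom {A : Type*} [CommGroup A] [Finite A] (f : G →* A) (h : 2 ∣ Nat.card f.range) :
    ∃ N : Subgroup G, N.Normal ∧ N.index = 2 := by
  obtain ⟨M, hM⟩ := exists_comm h
  refine ⟨M.comap f.rangeRestrict, inferInstance, ?_⟩
  rw [Subgroup.index_comap_of_surjective _ f.rangeRestrict_surjective, hM]

theorem exists_of_cyclic_sylow (P : Sylow 2 G) [IsCyclic P] (h : 2 ∣ Nat.card G) :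
    ∃ N : Subgroup G, N.Normal ∧ N.index = 2 := by
  haveI : Fact (Nat.Prime 2) := ⟨Nat.prime_two⟩
  have hmin : (Nat.card G).minFac = 2 := (Nat.minFac_eq_two_iff _).mpr h
  have hP : Subgroup.normalizer ((P : Subgroup G) : Set G) ≤ Subgroup.centralizer ((P : Subgroup G) : Set G) :=
    IsCyclic.normalizer_le_centralizer hmin ‹_›
  haveI : IsMulCommutative (P : Subgroup G) := ⟨⟨IsCyclic.commGroup.mul_comm⟩⟩
  letI : CommGroup (P : Subgroup G) := IsCyclic.commGroup
  refine exists_of_hom (MonoidHom.transferSylow P hP) ?_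
  have hc := MonoidHom.ker_transferSylow_isComplement' P hP
  rw [← Subgroup.index_ker, hc.symm.index_eq_card]
  exact P.dvd_card_of_dvd_card h

end CfsgLib.Recognition.NearField.IndexTwo
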