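import Mathlib
import Cfsg.Agent.Lib.Recognition.NearField.Basic
import Cfsg.Agent.Lib.Recognition.NearField.Quaternion
import Cfsg.Agent.Lib.Recognition.NearField.IndexTwo
import Cfsg.Agent.Lib.Recognition.NearField.SL23

/-!
Solvable groups acting regularly on the nonzero vectors of a finite space.
-/

namespace CfsgLib.Recognition.NearField

open Polynomial
open scoped Pointwise

theorem count_false {q n b r g : ℕ} (hq : 2 ≤ q) (hn : 0 < n) (hb : q ^ n - 1 ≤ b * r) (hr : r ≤ n)
    (hbg : b ≤ q ^ g - 1) (hg : 2 * g ≤ n) : False := by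
  have h2n : 2 ≤ q ^ n := by
    calc 2 ≤ q := hq
      _ = q ^ 1 := (pow_one q).symm
      _ ≤ q ^ n := Nat.pow_le_pow_right (by omega) hn
  have hg0 : 0 < g := by
    by_contra h0
    rw [show g = 0 by omega, pow_zero, Nat.sub_self, Nat.le_zero] at hbg
    rw [hbg, zero_mul] at hb
    omega
  obtain ⟨A, hA⟩ : ∃ A, q ^ g = A + 1 := ⟨q ^ g - 1, by have := Nat.one_le_pow g q (by omega); omega⟩
  set B := q ^ (n - g) with hB
  have hprod : q ^ n = (A + 1) * B := by rw [← hA, hB, ← pow_add]; congr 1; omega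
  have hBA : A + 1 ≤ B := hA ▸ Nat.pow_le_pow_right (by omega) (by omega)
  have h2B : 2 ^ (n - g) ≤ B := Nat.pow_le_pow_left hq _
  have key : ∀ m : ℕ, 0 < m → 2 * m ≤ 2 ^ m := by
    intro m hm
    induction m, hm using Nat.le_induction with
    | base => norm_num
    | succ m hm ih =>
      have := Nat.one_lt_two_pow (n := m) (by omega)
      rw [pow_succ]; omega
  have h2 := key (n - g) (by omega)
  have h3 : q ^ n - 1 ≤ A * n := hb.trans (Nat.mul_le_mul (by omega) hr)
  have hAn : A * n ≤ A * (2 * (n - g)) := Nat.mul_le_mul_left A (by omega)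
  have hAB : A * (2 * (n - g)) ≤ A * B := Nat.mul_le_mul_left A (h2.trans h2B)
  rw [hprod, Nat.add_mul, one_mul] at h3
  omega

theorem quaternion_numeric {q d r : ℕ} (hq : q.Prime) (hq2 : q ≠ 2) (hd : 0 < d) (hr : r ≤ d) (hr0 : 0 < r)
    (h : q ^ d + 1 ∣ 24 * r) : d = 1 ∧ (q = 3 ∨ q = 5 ∨ q = 7 ∨ q = 11 ∨ q = 23) := by
  have hq3 : 3 ≤ q := by have := hq.two_le; omega
  have hle : q ^ d + 1 ≤ 24 * d := (Nat.le_of_dvd (by omega) h).trans (by omega)
  have hd5 : d ≤ 5 := by
    by_contra h6
    have key : ∀ m : ℕ, 6 ≤ m → 24 * m < 3 ^ m := by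
      intro m hm
      induction m, hm using Nat.le_induction with
      | base => norm_num
      | succ m hm ih => rw [pow_succ]; omega
    have := key d (by omega)
    have := Nat.pow_le_pow_left hq3 d
    omega
  interval_cases d
  · have hq23 : q ≤ 23 := by rw [pow_one] at hle; omega
    interval_cases r
    rw [pow_one] at h
    refine ⟨rfl, ?_⟩
    interval_cases q <;> revert h hq <;> decide
  all_goals
    exfalso
    have hq7 : q ≤ 7 := by
      by_contra h8
      have hpow : ∀ m, 8 ^ m ≤ q ^ m := fun m => Nat.pow_le_pow_left (show 8 ≤ q by omega) m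
      have := hpow 2
      have := hpow 3
      have := hpow 4
      have := hpow 5
      norm_num at *
      omega
    interval_cases q <;> interval_cases r <;> revert h hq <;> decide

variable {q : ℕ} [Fact q.Prime] {V : Type*} [AddCommGroup V] [Module (ZMod q) V] [Finite V] [Nontrivial V]
  {G : Type*} [Group G] [Finite G] {ρ : G →* Module.End (ZMod q) V}

omit [Nontrivial V] in
theorem conj_pow_of_normal (B : Subgroup G) [B.Normal] {t : G} (ht : Subgroup.zpowers t = B) (x : G) :
    ∃ s : ℕ, x * t * x⁻¹ = t ^ s := by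
  have htB : t ∈ B := ht ▸ Subgroup.mem_zpowers t
  have h1 : x * t * x⁻¹ ∈ Subgroup.zpowers t := ht.symm ▸ (inferInstance : B.Normal).conj_mem t htB x
  obtain ⟨s, hs⟩ := mem_powers_iff_mem_zpowers.mpr h1
  exact ⟨s, hs.symm⟩

omit [Nontrivial V] in
theorem card_conjugates (t : G) : Nat.card (conjugatesOf t) = (Subgroup.centralizer {t}).index := by
  classical
  have e1 : Nat.card (conjugatesOf t) = Nat.card (MulAction.orbit (ConjAct G) t) := by
    refine Nat.card_congr (Equiv.subtypeEquivRight fun y => ?_)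
    rw [ConjAct.mem_orbit_conjAct]
    exact isConj_comm
  rw [e1, Nat.card_congr (MulAction.orbitEquivQuotientStabilizer (ConjAct G) t)]
  show (MulAction.stabilizer (ConjAct G) t).index = _
  rw [ConjAct.stabilizer_eq_centralizer]
  rfl

omit [Nontrivial V] in
theorem centralizer_eq {B : Subgroup G} {t : G} (ht : Subgroup.zpowers t = B) :
    Subgroup.centralizer {t} = Subgroup.centralizer (B : Set G) := by
  rw [← ht]
  ext x
  rw [Subgroup.mem_centralizer_singleton_iff, Subgroup.mem_centralizer_iff]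
  constructor
  · intro hx y hy
    obtain ⟨s, rfl⟩ := Subgroup.mem_zpowers_iff.mp hy
    exact ((show Commute t x from hx.symm).zpow_left s).eq
  · intro hx
    exact (hx t (Subgroup.mem_zpowers t)).symm

/-- The self-centralising case. -/
theorem case_cyclic (h : Fpf ρ) (hreg : Nat.card G = Nat.card V - 1) (B : Subgroup G) [B.Normal] (hB : IsCyclic B)
    (hC : Subgroup.centralizer (B : Set G) = B) :
    (∃ (F : Type) (_ : Field F) (_ : Fintype F) (e : V ≃+ F),
      ∀ g : G, ∃ (a : F) (σ : F ≃+* F), ∀ v : V, e (ρ g v) = a * σ (e v)) ∧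
    (q ≠ 2 → ∃ N : Subgroup G, N.Normal ∧ N.index = 2) := by
  classical
  have hqp := (Fact.out : q.Prime)
  set n := Module.finrank (ZMod q) V with hn
  have hVcard : Nat.card V = q ^ n := by rw [Module.natCard_eq_pow_finrank (K := ZMod q), Nat.card_zmod]
  have hn0 : 0 < n := Module.finrank_pos
  obtain ⟨⟨t, htB⟩, htgen⟩ := IsCyclic.exists_generator (α := B)
  have ht : Subgroup.zpowers t = B := by
    refine le_antisymm (Subgroup.zpowers_le.mpr htB) fun x hx => ?_
    obtain ⟨s, hs⟩ := Subgroup.mem_zpowers_iff.mp (htgen ⟨x, hx⟩)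
    exact Subgroup.mem_zpowers_iff.mpr ⟨s, congrArg Subtype.val hs⟩
  have hconj := conj_pow_of_normal B ht
  obtain ⟨f, hf, hfd, hfdeg, hord, hconjn⟩ := eigen t (h.powers t) (minpoly (ZMod q) (ρ t))
    (minpoly.ne_zero (Algebra.IsIntegral.isIntegral _)) (minpoly.aeval _ _) hconj
  have hmdeg : (minpoly (ZMod q) (ρ t)).natDegree ≤ n :=
    (natDegree_le_of_dvd (LinearMap.minpoly_dvd_charpoly (ρ t)) (ρ t).charpoly_monic.ne_zero).trans
      (ρ t).charpoly_natDegree.le
  have hbr : orderOf t * Nat.card (conjugatesOf t) = q ^ n - 1 := by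
    rw [card_conjugates, centralizer_eq ht, hC, ← Nat.card_zpowers, ht, B.card_mul_index, hreg, hVcard]
  refine ⟨semilinear (ρ := ρ) t hconj f hf hfd ?_, fun hq2 => ?_⟩
  · by_contra hlt
    push_neg at hlt
    have hdn : orderOf t ∣ q ^ n - 1 := ⟨_, hbr.symm⟩
    have hgcd : orderOf t ∣ q ^ Nat.gcd f.natDegree n - 1 := by
      rw [← Nat.pow_sub_one_gcd_pow_sub_one]; exact Nat.dvd_gcd hord hdn
    have hpos : 0 < q ^ Nat.gcd f.natDegree n - 1 := by
      have := Nat.one_lt_pow (Nat.gcd_pos_of_pos_right f.natDegree hn0).ne' hqp.one_lt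
      omega
    refine count_false hqp.two_le hn0 hbr.ge (hconjn.trans hmdeg) (Nat.le_of_dvd hpos hgcd) ?_
    obtain ⟨k, hk⟩ := Nat.gcd_dvd_right f.natDegree n
    have hle : Nat.gcd f.natDegree n ≤ f.natDegree := Nat.le_of_dvd hf.natDegree_pos (Nat.gcd_dvd_left _ _)
    rcases k with _ | _ | k
    · omega
    · omega
    · calc 2 * Nat.gcd f.natDegree n ≤ (k + 1 + 1) * Nat.gcd f.natDegree n := Nat.mul_le_mul_right _ (by omega)
        _ = n := by rw [mul_comm]; exact hk.symm
  · have heven : 2 ∣ Nat.card G := by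
      rw [hreg, hVcard]
      have hodd : Odd (q ^ n) := (hqp.odd_of_ne_two hq2).pow
      obtain ⟨m, hm⟩ := hodd
      exact ⟨m, by omega⟩
    let cj : G →* MulAut B := MulAut.conjNormal
    have hker : cj.ker = B := by
      ext g
      rw [MonoidHom.mem_ker]
      constructor
      · intro hg
        rw [← hC, Subgroup.mem_centralizer_iff]
        intro c hc
        have h1 := congrArg Subtype.val (DFunLike.congr_fun hg (⟨c, hc⟩ : B))
        simp only [cj, MulAut.conjNormal_apply, MulAut.one_apply] at h1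
        exact (mul_inv_eq_iff_eq_mul.mp h1).symm
      · intro hg
        refine MulEquiv.ext fun c => Subtype.ext ?_
        simp only [cj, MulAut.conjNormal_apply, MulAut.one_apply]
        have := Subgroup.mem_centralizer_iff.mp (hC.symm ▸ hg : g ∈ Subgroup.centralizer (B : Set G)) c c.2
        rw [← this, mul_inv_cancel_right]
    by_cases hidx : 2 ∣ B.index
    · have hcomm : ∀ x y : cj.range, x * y = y * x := by
        rintro ⟨_, x, rfl⟩ ⟨_, y, rfl⟩
        refine Subtype.ext (MulEquiv.ext fun c => Subtype.ext ?_)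
        show ((cj x (cj y c) : B) : G) = ((cj y (cj x c) : B) : G)
        simp only [cj, MulAut.conjNormal_apply]
        obtain ⟨m, hm⟩ := mem_powers_iff_mem_zpowers.mpr (ht.symm ▸ c.2 : (c : G) ∈ Subgroup.zpowers t)
        simp only at hm
        obtain ⟨sx, hsx⟩ := hconj x
        obtain ⟨sy, hsy⟩ := hconj y
        rw [← hm, ← conj_pow (a := y), hsy, ← conj_pow (a := x), ← conj_pow (a := x), hsx, ← conj_pow (a := x), hsx,
          ← conj_pow (a := y), ← conj_pow (a := y), hsy, ← pow_mul, ← pow_mul, ← pow_mul, ← pow_mul]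
        ring_nf
      letI : CommGroup cj.range := { (inferInstance : Group cj.range) with mul_comm := hcomm }
      refine IndexTwo.exists_of_hom cj.rangeRestrict ?_
      rw [MonoidHom.range_eq_top.mpr cj.rangeRestrict_surjective, Subgroup.card_top, ← Subgroup.index_ker, hker]
      exact hidx
    · obtain ⟨P⟩ : Nonempty (Sylow 2 G) := inferInstance
      haveI : Fact (Nat.Prime 2) := ⟨Nat.prime_two⟩
      have hPB : (P : Subgroup G) ≤ B := by
        intro x hx
        obtain ⟨k, hk⟩ := (IsPGroup.iff_orderOf.mp P.isPGroup') ⟨x, hx⟩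
        rw [← Subgroup.orderOf_coe] at hk
        have h1 : orderOf (QuotientGroup.mk' B x) ∣ Nat.gcd (2 ^ k) B.index :=
          Nat.dvd_gcd (hk ▸ orderOf_map_dvd _ x) (orderOf_dvd_natCard _)
        have hcop : Nat.gcd (2 ^ k) B.index = 1 :=
          Nat.Coprime.pow_left k ((Nat.prime_two.coprime_iff_not_dvd).mpr hidx)
        rw [hcop, Nat.dvd_one, orderOf_eq_one_iff] at h1
        rwa [← MonoidHom.mem_ker, QuotientGroup.ker_mk'] at h1
      haveI : IsCyclic (P : Subgroup G) :=
        isCyclic_of_injective (Subgroup.inclusion hPB) (Subgroup.inclusion_injective hPB)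
      exact IndexTwo.exists_of_cyclic_sylow P heven

omit [Finite V] [Nontrivial V] in
theorem index_two_of_quot {M : Subgroup G} [M.Normal] (hM : M.index = 2 ∨ M.index = 6) :
    ∃ N : Subgroup G, N.Normal ∧ N.index = 2 := by
  rcases hM with hM | hM
  · exact ⟨M, inferInstance, hM⟩
  haveI : Fact (Nat.Prime 2) := ⟨Nat.prime_two⟩
  have hc : Nat.card (G ⧸ M) = 6 := hM
  obtain ⟨P⟩ : Nonempty (Sylow 2 (G ⧸ M)) := inferInstance
  have hP : Nat.card (P : Subgroup (G ⧸ M)) = 2 := by
    rw [P.card_eq_multiplicity, hc, show (6 : ℕ) = 2 ^ 1 * 3 from rfl,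
      Nat.factorization_mul (by norm_num) (by norm_num), Nat.Prime.factorization_pow Nat.prime_two, Finsupp.add_apply,
      Finsupp.single_eq_same, Nat.factorization_eq_zero_of_not_dvd (by norm_num)]
    norm_num
  haveI : IsCyclic (P : Subgroup (G ⧸ M)) := isCyclic_of_prime_card hP
  obtain ⟨N, hN, hNi⟩ := IndexTwo.exists_of_cyclic_sylow P (by rw [hc]; norm_num)
  exact ⟨N.comap (QuotientGroup.mk' M), inferInstance,
    by rw [Subgroup.index_comap_of_surjective _ (QuotientGroup.mk'_surjective M), hNi]⟩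

set_option maxHeartbeats 1600000 in
/-- The quaternion case. -/
theorem case_quaternion (h : Fpf ρ) [Group.IsSolvable G] (hreg : Nat.card G = Nat.card V - 1)
    (hno : ∀ B : Subgroup G, B.Normal → IsCyclic B → Subgroup.centralizer (B : Set G) ≠ B)
    {Q : Subgroup G} [Q.Normal] (e : Q ≃* QuaternionGroup 2) :
    Nat.card V ∈ ({25, 49, 121, 529} : Set ℕ) ∧
    ((∃ N : Subgroup G, N.Normal ∧ N.index = 2) ∨
      (Nat.card V = 25 ∧ Nonempty (G ≃* Matrix.SpecialLinearGroup (Fin 2) (ZMod 3))) ∨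
      (Nat.card V = 121 ∧ Nonempty (G ≃* Matrix.SpecialLinearGroup (Fin 2) (ZMod 3) × Multiplicative (ZMod 5)))) := by
  classical
  have hqp := (Fact.out : q.Prime)
  set L := Subgroup.centralizer (Q : Set G) with hL
  haveI : L.Normal := inferInstance
  obtain ⟨i, j, hiQ, hjQ, hi, hi4, hjj, hji, hij, hgenQ⟩ := quat_gens e
  obtain ⟨hneg, hq2⟩ := involution_neg h hi4 hi
  have hzL : i * i ∈ L := by
    refine Subgroup.mem_centralizer_iff.mpr fun c _ => h.injective (LinearMap.ext fun v => ?_)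
    rw [map_mul, map_mul ρ (i * i) c]
    show ρ c (ρ (i * i) v) = ρ (i * i) (ρ c v)
    rw [hneg, hneg, map_neg]
  obtain ⟨d, hd0, hVcard, hsplit⟩ := split h e
  have hQcard : Nat.card Q = 8 := by rw [Nat.card_congr e.toEquiv, Nat.card_eq_fintype_card]; decide +kernel
  obtain ⟨B, hBL, hBn, hBc, hor⟩ := dichotomy h L
  haveI := hBn
  have hBC : L ⊓ Subgroup.centralizer (B : Set G) = B := by
    rcases hor with h1 | ⟨Q', hQ'L, -, ⟨e'⟩⟩
    · exact h1
    · exfalso
      obtain ⟨i', -, hi'Q, -, hi', hi'4, -, -, -, -⟩ := quat_gens e'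
      exact hi' (sq_eq_one_of_pow_four h e (hQ'L hi'Q) (by rw [← hi'4]; simp [pow_succ, mul_assoc]))
  obtain ⟨⟨t, htB⟩, htgen⟩ := IsCyclic.exists_generator (α := B)
  have ht : Subgroup.zpowers t = B := by
    refine le_antisymm (Subgroup.zpowers_le.mpr htB) fun x hx => ?_
    obtain ⟨s, hs⟩ := Subgroup.mem_zpowers_iff.mp (htgen ⟨x, hx⟩)
    exact Subgroup.mem_zpowers_iff.mpr ⟨s, congrArg Subtype.val hs⟩
  obtain ⟨⟨P, hP0, hPd, hP⟩, hord, -⟩ := hsplit t (hBL htB)
  obtain ⟨f, -, -, -, -, hr⟩ := eigen t (h.powers t) P hP0 hP (conj_pow_of_normal B ht)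
  set C := Subgroup.centralizer (B : Set G) with hCdef
  haveI : C.Normal := inferInstance
  have hBleC : B ≤ C := hBC.ge.trans inf_le_right
  have hrC : Nat.card (conjugatesOf t) = C.index := by rw [card_conjugates, centralizer_eq ht]
  have hrel : B.relIndex C ∣ L.index := by
    have h1 : B.relIndex C = L.relIndex C := by
      conv_lhs => rw [← hBC]
      rw [Subgroup.inf_relIndex_right]
    rw [h1]
    exact Subgroup.relIndex_dvd_index_of_normal L C
  have hN24 := index_centralizer_dvd e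
  have hdvd : q ^ d + 1 ∣ 24 * Nat.card (conjugatesOf t) := by
    have h1 : Nat.card B * (B.relIndex C * C.index) = (q ^ d - 1) * (q ^ d + 1) := by
      rw [Subgroup.relIndex_mul_index hBleC, B.card_mul_index, hreg, hVcard, mul_comm 2 d, pow_mul]
      obtain ⟨m, hm⟩ : ∃ m, q ^ d = m + 1 := ⟨q ^ d - 1, by have := Nat.one_le_pow d q hqp.pos; omega⟩
      rw [hm, Nat.add_sub_cancel, show (m + 1) ^ 2 = m * (m + 1 + 1) + 1 by ring, Nat.add_sub_cancel]
    obtain ⟨m, hm⟩ : Nat.card B ∣ q ^ d - 1 := by rw [← ht, Nat.card_zpowers]; exact hord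
    rw [hm, mul_assoc] at h1
    have h2 := Nat.eq_of_mul_eq_mul_left Nat.card_pos h1
    have h3 : q ^ d + 1 ∣ B.relIndex C * C.index := ⟨m, by rw [h2, mul_comm]⟩
    rw [hrC]
    exact h3.trans (Nat.mul_dvd_mul_right (hrel.trans hN24) _)
  have hr0 : 0 < Nat.card (conjugatesOf t) := by rw [hrC]; exact Nat.pos_of_ne_zero Subgroup.FiniteIndex.index_ne_zero
  obtain ⟨rfl, hqcases⟩ := quaternion_numeric hqp hq2 hd0 (hr.trans hPd) hr0 hdvd
  -- the centraliser is a group of scalars
  have hscalar : ∀ l ∈ L, ∃ c : ZMod q, ∀ v, ρ l v = c • v := fun l hl => (hsplit l hl).2.2 rfl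
  have hLcentral : ∀ l ∈ L, ∀ g : G, l * g = g * l := by
    intro l hl g
    obtain ⟨c, hc⟩ := hscalar l hl
    refine h.injective (LinearMap.ext fun v => ?_)
    rw [map_mul, map_mul]
    show ρ l (ρ g v) = ρ g (ρ l v)
    rw [hc, hc, map_smul]
  haveI hLc : IsCyclic L := isCyclic_of_comm h L fun a ha b _ => hLcentral a ha b
  have hLdvd : Nat.card L ∣ q - 1 := by
    obtain ⟨l, hl⟩ := IsCyclic.exists_ofOrder_eq_natCard (α := L)
    rw [← hl, ← Subgroup.orderOf_coe]
    have := (hsplit l.1 l.2).2.1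
    rwa [pow_one] at this
  haveI : Fact (Nat.Prime 2) := ⟨Nat.prime_two⟩
  have hz2 : orderOf (i * i) = 2 := orderOf_eq_prime (by rw [pow_two]; exact hi4) hi
  have hLeven : 2 ∣ Nat.card L := by
    have h1 := orderOf_dvd_natCard (⟨i * i, hzL⟩ : L)
    rwa [← Subgroup.orderOf_coe, hz2] at h1
  have hL4 : ¬ 4 ∣ Nat.card L := by
    intro h4
    obtain ⟨l, hl⟩ := IsCyclic.exists_ofOrder_eq_natCard (α := L)
    have ho : orderOf ((l ^ (Nat.card L / 4) : L) : G) = 4 := by
      rw [Subgroup.orderOf_coe, ← hl, orderOf_pow_orderOf_div (orderOf_pos l).ne' (hl ▸ h4)]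
    set x : L := l ^ (Nat.card L / 4)
    have h1 := sq_eq_one_of_pow_four h e x.2 (by rw [← ho]; exact pow_orderOf_eq_one _)
    have h2 : orderOf (x : G) ∣ 2 := orderOf_dvd_of_pow_eq_one (by rw [pow_two]; exact h1)
    rw [ho] at h2
    norm_num at h2
  have hLQ : L.relIndex Q = 4 := by
    have hcen : Nat.card (L.subgroupOf Q) = 2 := by
      have e' : (L.subgroupOf Q : Subgroup Q) ≃ {c : QuaternionGroup 2 // ∀ x, c * x = x * c} :=
        Equiv.subtypeEquiv e.toEquiv (fun c => by
          rw [Subgroup.mem_subgroupOf, Subgroup.mem_centralizer_iff]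
          constructor
          · intro hc x
            have h1 : c * e.symm x = e.symm x * c := Subtype.ext (hc _ (e.symm x).2).symm
            simpa using congrArg e h1
          · intro hc x hx
            have h1 : c * ⟨x, hx⟩ = ⟨x, hx⟩ * c := e.injective (by rw [map_mul, map_mul]; exact hc _)
            exact (congrArg Subtype.val h1).symm)
      rw [Nat.card_congr e', Nat.card_eq_fintype_card]
      decide +kernel
    have := (L.subgroupOf Q).card_mul_index
    rw [hcen, hQcard] at this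
    show (L.subgroupOf Q).index = 4
    omega
  have hM : L.index = 4 * (Q ⊔ L).index := by
    rw [← Subgroup.relIndex_mul_index (le_sup_right : L ≤ Q ⊔ L), Subgroup.relIndex_sup_right, hLQ]
  have hGL : Nat.card L * L.index = q * q - 1 := by rw [L.card_mul_index, hreg, hVcard]; norm_num [pow_two]
  have hVq : Nat.card V = q * q := by rw [hVcard]; norm_num [pow_two]
  rcases hqcases with rfl | rfl | rfl | rfl | rfl
  · exfalso
    have hGcard : Nat.card G = 8 := by rw [hreg, hVq]
    have hQtop : Q = ⊤ := Subgroup.eq_top_of_le_card Q (by rw [hGcard, hQcard])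
    have hB' : IsCyclic (Subgroup.zpowers i) := inferInstance
    have hoi : orderOf i = 4 := by
      refine orderOf_eq_prime_pow (p := 2) (n := 1) (fun e' => hi (by rwa [pow_one, pow_two] at e')) ?_
      rw [← hi4]
      simp [pow_succ, mul_assoc]
    have hidx : (Subgroup.zpowers i).index = 2 := by
      have := (Subgroup.zpowers i).card_mul_index
      rw [Nat.card_zpowers, hoi, hGcard] at this
      omega
    haveI : (Subgroup.zpowers i).Normal := Subgroup.normal_of_index_eq_two hidx
    refine hno _ inferInstance hB' (le_antisymm ?_ ?_)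
    · intro c hc
      obtain ⟨s, t', rfl⟩ := hgenQ c (hQtop ▸ Subgroup.mem_top c)
      have hci : i ^ s * j ^ t' * i = i * (i ^ s * j ^ t') :=
        ((Subgroup.mem_centralizer_iff.mp hc) i (Subgroup.mem_zpowers i)).symm
      rcases Nat.even_or_odd' t' with ⟨k, rfl | rfl⟩
      · rw [pow_mul, pow_two, hjj]
        exact Subgroup.mul_mem _ (Subgroup.pow_mem _ (Subgroup.mem_zpowers i) _)
          (Subgroup.pow_mem _ (Subgroup.mul_mem _ (Subgroup.mem_zpowers i) (Subgroup.mem_zpowers i)) _)
      · exfalso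
        rw [pow_succ, pow_mul, pow_two, hjj, ← mul_assoc, ← pow_two, ← pow_mul, ← pow_add, ← mul_assoc i,
          ← pow_succ' i, mul_assoc] at hci
        rw [pow_succ, mul_assoc] at hci
        exact hij (mul_left_cancel hci).symm
    · intro c hc
      refine Subgroup.mem_centralizer_iff.mpr fun x hx => ?_
      obtain ⟨a, rfl⟩ := Subgroup.mem_zpowers_iff.mp hx
      obtain ⟨b, rfl⟩ := Subgroup.mem_zpowers_iff.mp hc
      exact zpow_mul_comm i a b
  · refine ⟨by rw [hVq]; simp, Or.inr (Or.inl ⟨by rw [hVq], ?_⟩)⟩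
    have hLle := Nat.le_of_dvd (by norm_num) hLdvd
    have hL2 : Nat.card L = 2 := by interval_cases hc : Nat.card L <;> omega
    refine SL23.mulEquiv_sl Q ⟨e⟩ (by rw [hreg, hVq]) ?_
    have heq : Subgroup.zpowers (i * i) = L := Subgroup.eq_of_le_of_card_ge (Subgroup.zpowers_le.mpr hzL)
      (by rw [Nat.card_zpowers, hz2, hL2])
    rw [← hL, ← heq]
    exact Subgroup.zpowers_le.mpr (Q.mul_mem hiQ hiQ)
  · refine ⟨by rw [hVq]; simp, Or.inl (index_two_of_quot (M := Q ⊔ L) ?_)⟩
    have hLle := Nat.le_of_dvd (by norm_num) hLdvd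
    have hL26 : Nat.card L = 2 ∨ Nat.card L = 6 := by interval_cases hc : Nat.card L <;> omega
    rw [hM] at hGL
    rcases hL26 with h2 | h2 <;> rw [h2] at hGL <;> omega
  · refine ⟨by rw [hVq]; simp, Or.inr (Or.inr ⟨by rw [hVq], ?_⟩)⟩
    have hLle := Nat.le_of_dvd (by norm_num) hLdvd
    have hL10 : Nat.card L = 10 := by
      have : Nat.card L = 2 ∨ Nat.card L = 10 := by interval_cases hc : Nat.card L <;> omega
      rcases this with h2 | h2
      · rw [h2] at hGL
        have h60 : L.index = 60 := by omega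
        rw [← hL, h60] at hN24
        norm_num at hN24
      · exact h2
    have hG : Nat.card G = 120 := by rw [hreg, hVq]
    haveI : Fact (Nat.Prime 3) := ⟨Nat.prime_three⟩
    haveI : Fact (Nat.Prime 5) := ⟨by norm_num⟩
    obtain ⟨x, hx⟩ := exists_prime_orderOf_dvd_card' (G := G) 3 (by rw [hG]; norm_num)
    obtain ⟨y, hy⟩ := exists_prime_orderOf_dvd_card' (G := L) 5 (by rw [hL10]; norm_num)
    rw [← Subgroup.orderOf_coe] at hy
    set S := Q ⊔ Subgroup.zpowers x with hS
    have hS24 : Nat.card S = 24 := by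
      have h8 : 8 ∣ Nat.card S := hQcard ▸ Subgroup.card_dvd_of_le le_sup_left
      have h3 : 3 ∣ Nat.card S := by
        rw [← hx, ← Nat.card_zpowers]
        exact Subgroup.card_dvd_of_le le_sup_right
      have h24 : 24 ∣ Nat.card S := Nat.Coprime.mul_dvd_of_dvd_of_dvd (by norm_num : Nat.Coprime 8 3) h8 h3
      refine le_antisymm ?_ (Nat.le_of_dvd Nat.card_pos h24)
      calc Nat.card S = Nat.card ((Q : Set G) * (Subgroup.zpowers x : Set G) : Set G) := by
            rw [← Subgroup.normal_mul Q (Subgroup.zpowers x)]; rfl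
        _ ≤ Nat.card (Q : Set G) * Nat.card (Subgroup.zpowers x : Set G) := Set.natCard_mul_le
        _ = 24 := by
            show Nat.card Q * Nat.card (Subgroup.zpowers x) = 24
            rw [hQcard, Nat.card_zpowers, hx]
    let Q' : Subgroup S := Q.subgroupOf S
    have hQS : Q ≤ S := le_sup_left
    obtain ⟨eS⟩ := SL23.mulEquiv_sl Q' ⟨(Subgroup.subgroupOfEquivOfLe hQS).trans e⟩ hS24 (by
      intro c hc
      have hcL : (c : G) ∈ L := Subgroup.mem_centralizer_iff.mpr fun a ha =>
        congrArg Subtype.val (Subgroup.mem_centralizer_iff.mp hc ⟨a, hQS ha⟩ (Subgroup.mem_subgroupOf.mpr ha))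
      have h1 : orderOf (c : G) ∣ Nat.gcd 24 10 := Nat.dvd_gcd
        (by rw [Subgroup.orderOf_coe, ← hS24]; exact orderOf_dvd_natCard c)
        (by rw [← hL10]; have := orderOf_dvd_natCard (⟨c, hcL⟩ : L); rwa [← Subgroup.orderOf_coe] at this)
      rw [show Nat.gcd 24 10 = 2 from rfl, orderOf_dvd_iff_pow_eq_one, pow_two] at h1
      show (c : G) ∈ Q
      by_cases hc1 : (c : G) = 1
      · rw [hc1]; exact Q.one_mem
      · rw [eq_of_involution h h1 hc1 hi4 hi]
        exact Q.mul_mem hiQ hiQ)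
    let P5 := Subgroup.zpowers (y : G)
    have hP5 : Nat.card P5 = 5 := by rw [Nat.card_zpowers, hy]
    have hP5L : P5 ≤ L := Subgroup.zpowers_le.mpr y.2
    let φ : S × P5 →* G :=
      { toFun := fun p => (p.1 : G) * p.2
        map_one' := by simp
        map_mul' := fun a b => by
          show ((a.1 * b.1 : S) : G) * ((a.2 * b.2 : P5) : G) = (a.1 : G) * a.2 * ((b.1 : G) * b.2)
          rw [Subgroup.coe_mul, Subgroup.coe_mul, mul_assoc, mul_assoc, ← mul_assoc (a.2 : G),
            hLcentral _ (hP5L a.2.2) (b.1 : G), mul_assoc] }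
    have hφ : Function.Injective φ := by
      rw [injective_iff_map_eq_one]
      rintro ⟨a, b⟩ hab
      have hab' : (a : G) * b = 1 := hab
      have h1 : (a : G) = (b : G)⁻¹ := eq_inv_of_mul_eq_one_left hab'
      have h2 : orderOf (b : G) ∣ Nat.gcd 24 5 := Nat.dvd_gcd
        (by rw [← orderOf_inv, ← h1, Subgroup.orderOf_coe, ← hS24]; exact orderOf_dvd_natCard a)
        (by rw [Subgroup.orderOf_coe, ← hP5]; exact orderOf_dvd_natCard b)
      rw [show Nat.gcd 24 5 = 1 from rfl, Nat.dvd_one, orderOf_eq_one_iff] at h2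
      rw [h2, inv_one] at h1
      exact Prod.ext (Subtype.ext h1) (Subtype.ext h2)
    have hbij : Function.Bijective φ := by
      rw [Nat.bijective_iff_injective_and_card]
      exact ⟨hφ, by rw [Nat.card_prod, hS24, hP5, hG]⟩
    exact ⟨(MulEquiv.ofBijective φ hbij).symm.trans
      (eS.prodCongr (mulEquivOfPrimeCardEq (p := 5) hP5 (by simp)))⟩
  · refine ⟨by rw [hVq]; simp, Or.inl (index_two_of_quot (M := Q ⊔ L) ?_)⟩
    have hLle := Nat.le_of_dvd (by norm_num) hLdvd
    have hL22 : Nat.card L = 22 := by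
      have : Nat.card L = 2 ∨ Nat.card L = 22 := by interval_cases hc : Nat.card L <;> omega
      rcases this with h2 | h2
      · rw [h2] at hGL
        have h264 : L.index = 264 := by omega
        rw [← hL, h264] at hN24
        norm_num at hN24
      · exact h2
    rw [hL22, hM] at hGL
    omega

/-- Zassenhaus: solvable groups regular on the nonzero vectors. -/
theorem main [Group.IsSolvable G] (h : Fpf ρ) (hreg : Nat.card G = Nat.card V - 1) :
    ((∃ (F : Type) (_ : Field F) (_ : Fintype F) (e : V ≃+ F),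
        ∀ g : G, ∃ (a : F) (σ : F ≃+* F), ∀ v : V, e (ρ g v) = a * σ (e v)) ∨
      Nat.card V ∈ ({25, 49, 121, 529} : Set ℕ)) ∧
    (q ≠ 2 → (∃ N : Subgroup G, N.Normal ∧ N.index = 2) ∨
      (Nat.card V = 25 ∧ Nonempty (G ≃* Matrix.SpecialLinearGroup (Fin 2) (ZMod 3))) ∨
      (Nat.card V = 121 ∧ Nonempty (G ≃* Matrix.SpecialLinearGroup (Fin 2) (ZMod 3) × Multiplicative (ZMod 5)))) := by
  by_cases hex : ∃ B : Subgroup G, B.Normal ∧ IsCyclic B ∧ Subgroup.centralizer (B : Set G) = B
  · obtain ⟨B, hBn, hBc, hC⟩ := hex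
    haveI := hBn
    obtain ⟨h1, h2⟩ := case_cyclic h hreg B hBc hC
    exact ⟨Or.inl h1, fun hq => Or.inl (h2 hq)⟩
  · have hno : ∀ B : Subgroup G, B.Normal → IsCyclic B → Subgroup.centralizer (B : Set G) ≠ B :=
      fun B hn hc he => hex ⟨B, hn, hc, he⟩
    obtain ⟨B, -, hBn, hBc, hC | ⟨Q, -, hQn, ⟨e⟩⟩⟩ := dichotomy h (⊤ : Subgroup G)
    · exact absurd (by rw [top_inf_eq] at hC; exact hC) (hno B hBn hBc)
    · haveI := hQn
      obtain ⟨h1, h2⟩ := case_quaternion h hreg hno e
      exact ⟨Or.inr h1, fun _ => h2⟩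

end CfsgLib.Recognition.NearField
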