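import Mathlib

/-!
Endomorphisms of prime order: orbit-degree bounds, commutants, and invariant pairings.
-/

set_option linter.style.haveILetI false

namespace CfsgLib.Recognition.NearField.PrimeOrder

open Polynomial

variable {p : ℕ} [Fact p.Prime] {U : Type*} [AddCommGroup U] [Module (ZMod p) U] [Finite U]

/-- A nontrivial endomorphism of prime order has an irreducible factor whose root has that order. -/
theorem exists_factor (X0 : Module.End (ZMod p) U) {s : ℕ} (hs : s.Prime) (hsp : s ≠ p) (hX : X0 ^ s = 1)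
    (hX1 : X0 ≠ 1) :
    ∃ h : (ZMod p)[X], Irreducible h ∧ h ∣ minpoly (ZMod p) X0 ∧ orderOf (AdjoinRoot.root h) = s ∧
      s ∣ p ^ h.natDegree - 1 := by
  classical
  haveI : Fact s.Prime := ⟨hs⟩
  have hint : IsIntegral (ZMod p) X0 := Algebra.IsIntegral.isIntegral X0
  set Φ : (ZMod p)[X] := ∑ i ∈ Finset.range s, X ^ i with hΦ
  have hΦX : Φ * (X - 1) = X ^ s - 1 := geom_sum_mul X s
  set g := gcd (minpoly (ZMod p) X0) Φ with hg
  have hgu : ¬ IsUnit g := by
    intro hu
    obtain ⟨a, b, hab⟩ := (gcd_isUnit_iff _ _).mp hu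
    apply hX1
    have h1 : aeval X0 b * aeval X0 Φ = 1 := by
      have := congrArg (aeval X0) hab
      rwa [map_add, map_mul, map_mul, minpoly.aeval, mul_zero, zero_add, map_one] at this
    have h2 : aeval X0 Φ * (X0 - 1) = 0 := by
      have := congrArg (aeval X0) hΦX
      rwa [map_mul, map_sub, map_sub, aeval_X, map_one, aeval_X_pow, hX, sub_self] at this
    calc X0 = 1 + 1 * (X0 - 1) := by rw [one_mul, add_sub_cancel]
      _ = 1 + aeval X0 b * (aeval X0 Φ * (X0 - 1)) := by rw [← mul_assoc, h1]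
      _ = 1 := by rw [h2, mul_zero, add_zero]
  have hg0 : g ≠ 0 := fun e => minpoly.ne_zero hint ((gcd_eq_zero_iff _ _).mp e).1
  obtain ⟨h, hh, hhg⟩ := WfDvdMonoid.exists_irreducible_factor hgu hg0
  haveI := Fact.mk hh
  refine ⟨h, hh, hhg.trans (gcd_dvd_left _ _), ?_⟩
  set τ := AdjoinRoot.root h with hτ
  have hroot : ∀ P : (ZMod p)[X], h ∣ P → aeval τ P = 0 := fun P hP => by
    rw [hτ, AdjoinRoot.aeval_eq, AdjoinRoot.mk_eq_zero]; exact hP
  have hτΦ : aeval τ Φ = 0 := hroot _ (hhg.trans (gcd_dvd_right _ _))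
  have hτs : τ ^ s = 1 := by
    have := congrArg (aeval τ) hΦX
    rw [map_mul, hτΦ, zero_mul, map_sub, map_one, aeval_X_pow] at this
    exact sub_eq_zero.mp this.symm
  have hτ1 : τ ≠ 1 := by
    intro e
    rw [e, hΦ, map_sum] at hτΦ
    simp only [aeval_X_pow, one_pow, Finset.sum_const, Finset.card_range, nsmul_one] at hτΦ
    haveI : CharP (AdjoinRoot h) p := charP_of_injective_algebraMap (algebraMap (ZMod p) (AdjoinRoot h)).injective p
    rw [CharP.cast_eq_zero_iff (AdjoinRoot h) p] at hτΦ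
    exact hsp ((Nat.prime_dvd_prime_iff_eq Fact.out hs).mp hτΦ).symm
  have hord : orderOf τ = s := orderOf_eq_prime hτs hτ1
  refine ⟨hord, ?_⟩
  haveI : FiniteDimensional (ZMod p) (AdjoinRoot h) := (AdjoinRoot.powerBasis hh.ne_zero).finite
  haveI : Finite (AdjoinRoot h) := Module.finite_of_finite (ZMod p)
  haveI : Fintype (AdjoinRoot h) := Fintype.ofFinite _
  have hcard : Fintype.card (AdjoinRoot h) = p ^ h.natDegree := by
    rw [Module.card_eq_pow_finrank (K := ZMod p), ZMod.card, (AdjoinRoot.powerBasis hh.ne_zero).finrank,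
      AdjoinRoot.powerBasis_dim]
  rw [← hord, ← hcard]
  exact orderOf_dvd_of_pow_eq_one (FiniteField.pow_card_sub_one_eq_one τ
    (fun e => by rw [e, zero_pow hs.ne_zero] at hτs; exact zero_ne_one hτs))

theorem minpoly_degree_le (X0 : Module.End (ZMod p) U) :
    (minpoly (ZMod p) X0).natDegree ≤ Module.finrank (ZMod p) U :=
  (natDegree_le_of_dvd (LinearMap.minpoly_dvd_charpoly X0) X0.charpoly_monic.ne_zero).trans
    X0.charpoly_natDegree.le

/-- The commutant of an element of primitive prime order is commutative. -/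
theorem commutant_comm [Nontrivial U] (X0 : Module.End (ZMod p) U) {s : ℕ} (hs : s.Prime) (hsp : s ≠ p) (hX : X0 ^ s = 1)
    (hX1 : X0 ≠ 1) (hprim : ∀ k, 0 < k → k < Module.finrank (ZMod p) U → ¬ s ∣ p ^ k - 1)
    (Y Z : Module.End (ZMod p) U) (hY : Commute X0 Y) (hZ : Commute X0 Z) : Commute Y Z := by
  classical
  obtain ⟨h, hh, hhd, -, hsd⟩ := exists_factor X0 hs hsp hX hX1
  haveI := Fact.mk hh
  have hdeg : Module.finrank (ZMod p) U ≤ h.natDegree := by
    by_contra hlt
    exact hprim _ hh.natDegree_pos (by omega) hsd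
  have hint : IsIntegral (ZMod p) X0 := Algebra.IsIntegral.isIntegral X0
  have hhX : aeval X0 h = 0 := by
    obtain ⟨c, hc⟩ := (associated_of_dvd_of_natDegree_le hhd (minpoly.ne_zero hint)
      ((minpoly_degree_le X0).trans hdeg)).symm.dvd
    rw [hc, map_mul, minpoly.aeval, zero_mul]
  obtain ⟨v0, hv0⟩ := exists_ne (0 : U)
  haveI : FiniteDimensional (ZMod p) (AdjoinRoot h) := (AdjoinRoot.powerBasis hh.ne_zero).finite
  haveI : Finite (AdjoinRoot h) := Module.finite_of_finite (ZMod p)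
  let φ : AdjoinRoot h →+* Module.End (ZMod p) U :=
    Ideal.Quotient.lift (Ideal.span {h}) (aeval X0 : (ZMod p)[X] →ₐ[ZMod p] _).toRingHom (fun P hP => by
      obtain ⟨c, rfl⟩ := Ideal.mem_span_singleton'.mp hP
      show aeval X0 (c * h) = 0
      rw [map_mul, hhX, mul_zero])
  let ev : AdjoinRoot h →+ U :=
    { toFun := fun x => φ x v0
      map_zero' := by rw [map_zero]; rfl
      map_add' := fun a b => by rw [map_add]; rfl }
  have hinj : Function.Injective ev := by
    rw [injective_iff_map_eq_zero]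
    intro x hx
    by_contra hne
    apply hv0
    have h1 : φ x⁻¹ (φ x v0) = v0 := by
      show (φ x⁻¹ * φ x) v0 = v0
      rw [← map_mul, inv_mul_cancel₀ hne, map_one]
      rfl
    rw [← h1, show φ x v0 = 0 from hx, map_zero]
  have hsurj : Function.Surjective ev := by
    refine (Nat.bijective_iff_injective_and_card ev).mpr ⟨hinj, le_antisymm (Nat.card_le_card_of_injective _ hinj) ?_⟩ |>.2
    rw [Module.natCard_eq_pow_finrank (K := ZMod p) (V := U), Module.natCard_eq_pow_finrank (K := ZMod p) (V := AdjoinRoot h),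
      (AdjoinRoot.powerBasis hh.ne_zero).finrank, AdjoinRoot.powerBasis_dim]
    exact Nat.pow_le_pow_right Nat.card_pos hdeg
  have key : ∀ Y : Module.End (ZMod p) U, Commute X0 Y → ∃ P : (ZMod p)[X], Y = aeval X0 P := by
    intro Y hY
    have hcomm : ∀ Q : (ZMod p)[X], Commute (aeval X0 Q) Y := fun Q => by
      induction Q using Polynomial.induction_on' with
      | add a b ha hb => rw [map_add]; exact ha.add_left hb
      | monomial n a => rw [aeval_monomial]; exact (Algebra.commute_algebraMap_left a Y).mul_left (hY.pow_left n)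
    obtain ⟨x, hx⟩ := hsurj (Y v0)
    obtain ⟨P, rfl⟩ := AdjoinRoot.mk_surjective x
    refine ⟨P, LinearMap.ext fun u => ?_⟩
    obtain ⟨y, rfl⟩ := hsurj u
    obtain ⟨Q, rfl⟩ := AdjoinRoot.mk_surjective y
    show Y (aeval X0 Q v0) = aeval X0 P (aeval X0 Q v0)
    have hx' : aeval X0 P v0 = Y v0 := hx
    calc Y (aeval X0 Q v0) = (aeval X0 Q * Y) v0 := by rw [(hcomm Q).eq]; rfl
      _ = (aeval X0 Q * aeval X0 P) v0 := by rw [Module.End.mul_apply, Module.End.mul_apply, hx']
      _ = _ := by rw [← map_mul, mul_comm, map_mul]; rfl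
  obtain ⟨P, rfl⟩ := key Y hY
  obtain ⟨Q, rfl⟩ := key Z hZ
  exact (Commute.all P Q).map (aeval X0)

theorem aeval_frobenius {K : Type*} [Field K] [Algebra (ZMod p) K] (P : (ZMod p)[X]) {z : K} (hz : aeval z P = 0)
    (k : ℕ) : aeval (z ^ p ^ k) P = 0 := by
  induction k with
  | zero => rwa [pow_zero, pow_one]
  | succ k ih =>
    rw [pow_succ, pow_mul, ← expand_aeval, ZMod.expand_card, map_pow, ih,
      zero_pow (Fact.out : p.Prime).ne_zero]

/-- An automorphism of prime order preserving a nondegenerate pairing. -/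
theorem pairing_bound {A : Type*} [AddCommGroup A] (ω : U →+ U →+ A) (hnd : ∀ b, (∀ a, ω a b = 0) → b = 0)
    (X0 : Module.End (ZMod p) U) (hω : ∀ a b, ω (X0 a) (X0 b) = ω a b) {s : ℕ} (hs : s.Prime) (hs2 : s ≠ 2)
    (hsp : s ≠ p) (hX : X0 ^ s = 1) (hX1 : X0 ≠ 1) :
    ∃ i, 0 < i ∧ 2 * i ≤ Module.finrank (ZMod p) U ∧ (s ∣ p ^ i - 1 ∨ s ∣ p ^ i + 1) := by
  classical
  haveI : Fact s.Prime := ⟨hs⟩
  obtain ⟨h, hh, hhd, hord, -⟩ := exists_factor X0 hs hsp hX hX1
  haveI := Fact.mk hh
  set τ := AdjoinRoot.root h with hτ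
  have hint : IsIntegral (ZMod p) X0 := Algebra.IsIntegral.isIntegral X0
  set μ := minpoly (ZMod p) X0 with hμ
  have hadjX : ∀ (n : ℕ) (a b : U), ω ((X0 ^ n) a) b = ω a ((X0 ^ ((s - 1) * n)) b) := by
    intro n
    induction n with
    | zero => intro a b; simp
    | succ n ih =>
      intro a b
      have hb : X0 ((X0 ^ (s - 1)) b) = b := by
        show (X0 * X0 ^ (s - 1)) b = b
        rw [← pow_succ', show s - 1 + 1 = s by have := hs.one_lt; omega, hX]
        rfl
      rw [pow_succ' X0 n, Module.End.mul_apply]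
      conv_lhs => rw [← hb]
      rw [hω, ih, ← Module.End.mul_apply, ← pow_add, Nat.mul_succ]
  have hadj : ∀ (P : (ZMod p)[X]) (a b : U), ω (aeval X0 P a) b = ω a (aeval (X0 ^ (s - 1)) P b) := by
    intro P
    induction P using Polynomial.induction_on' with
    | add x y hx hy => intro a b; simp only [map_add, LinearMap.add_apply, AddMonoidHom.add_apply, hx, hy]
    | monomial n c =>
      intro a b
      rw [aeval_monomial, aeval_monomial, ← pow_mul]
      show ω (c • (X0 ^ n) a) b = ω a (c • (X0 ^ ((s - 1) * n)) b)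
      rw [← ZMod.natCast_zmod_val c, Nat.cast_smul_eq_nsmul, Nat.cast_smul_eq_nsmul, map_nsmul, map_nsmul,
        AddMonoidHom.nsmul_apply, hadjX]
  have hinv : aeval (X0 ^ (s - 1)) μ = 0 := LinearMap.ext fun b => hnd _ fun a => by
    rw [← hadj, hμ, minpoly.aeval, LinearMap.zero_apply, map_zero, AddMonoidHom.zero_apply]
  have hroot : ∀ P : (ZMod p)[X], h ∣ P → aeval τ P = 0 := fun P hP => by
    rw [hτ, AdjoinRoot.aeval_eq, AdjoinRoot.mk_eq_zero]; exact hP
  have hz1 : aeval τ μ = 0 := hroot _ hhd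
  have hz2 : aeval (τ ^ (s - 1)) μ = 0 := by
    rw [← aeval_X_pow (R := ZMod p) τ, ← aeval_comp]
    refine hroot _ (hhd.trans (minpoly.dvd _ _ ?_))
    rw [aeval_comp, aeval_X_pow, hinv]
  -- the order of `p` modulo `s`
  set i0 := orderOf (p : ZMod s) with hi0
  have hps : (p : ZMod s) ≠ 0 := by
    rw [Ne, ZMod.natCast_eq_zero_iff]
    exact fun hd => hsp ((Nat.prime_dvd_prime_iff_eq hs Fact.out).mp hd)
  have hpi : (p : ZMod s) ^ i0 = 1 := pow_orderOf_eq_one _
  have hi0pos : 0 < i0 := orderOf_pos_iff.mpr (isOfFinOrder_iff_pow_eq_one.mpr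
    ⟨s - 1, by have := hs.one_lt; omega, ZMod.pow_card_sub_one_eq_one hps⟩)
  have hμdeg := minpoly_degree_le X0
  rw [← hμ] at hμdeg
  let R := (μ.map (algebraMap (ZMod p) (AdjoinRoot h))).roots.toFinset
  have hR : R.card ≤ Module.finrank (ZMod p) U :=
    (Multiset.toFinset_card_le _).trans ((card_roots' _).trans (natDegree_map_le.trans hμdeg))
  have hmem : ∀ z : AdjoinRoot h, aeval z μ = 0 → z ∈ R := fun z hz => by
    rw [Multiset.mem_toFinset, mem_roots (Polynomial.map_ne_zero (minpoly.ne_zero hint)), IsRoot, eval_map, ← aeval_def]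
    exact hz
  have hτeq : ∀ a b : ℕ, τ ^ a = τ ^ b → (a : ZMod s) = b := by
    intro a b hab
    have hτ0 : τ ≠ 0 := fun e => by
      have h1 := pow_orderOf_eq_one τ
      rw [hord, e, zero_pow hs.ne_zero] at h1
      exact zero_ne_one h1
    have hu : (Units.mk0 τ hτ0) ^ a = (Units.mk0 τ hτ0) ^ b := Units.ext (by simpa using hab)
    rw [pow_inj_mod, ← orderOf_units, Units.val_mk0, hord] at hu
    exact (ZMod.natCast_eq_natCast_iff' a b s).mpr hu
  have hpinj : ∀ a b : Fin i0, (p : ZMod s) ^ (a : ℕ) = (p : ZMod s) ^ (b : ℕ) → a = b := fun a b hab =>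
    Fin.ext (pow_injOn_Iio_orderOf a.2 b.2 hab)
  by_cases hev : 2 ∣ i0
  · obtain ⟨i, hi⟩ := hev
    let F : Fin i0 → {z // z ∈ R} := fun a => ⟨τ ^ p ^ (a : ℕ), hmem _ (aeval_frobenius μ hz1 _)⟩
    have hF : Function.Injective F := fun a b hab => by
      have h1 := hτeq _ _ (congrArg Subtype.val hab)
      push_cast at h1
      exact hpinj a b h1
    have hcard := Nat.card_le_card_of_injective F hF
    rw [Nat.card_fin, Nat.card_eq_finsetCard] at hcard
    refine ⟨i, by omega, by omega, Or.inr ?_⟩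
    have hsq : (p : ZMod s) ^ i * (p : ZMod s) ^ i = 1 := by rw [← pow_add, ← two_mul, ← hi, hpi]
    rcases mul_self_eq_one_iff.mp hsq with h1 | h1
    · exact absurd (orderOf_dvd_of_pow_eq_one h1) (fun hd => by
        have := Nat.le_of_dvd (by omega) hd
        omega)
    · rw [← ZMod.natCast_eq_zero_iff]
      push_cast
      rw [h1, neg_add_cancel]
  · let F : Fin i0 × Bool → {z // z ∈ R} := fun a => if a.2 then ⟨τ ^ p ^ (a.1 : ℕ), hmem _ (aeval_frobenius μ hz1 _)⟩
      else ⟨(τ ^ (s - 1)) ^ p ^ (a.1 : ℕ), hmem _ (aeval_frobenius μ hz2 _)⟩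
    have hneg : ((s - 1 : ℕ) : ZMod s) = -1 := by
      rw [Nat.cast_sub hs.one_le, ZMod.natCast_self, Nat.cast_one, zero_sub]
    haveI : Fact (2 < s) := ⟨by have := hs.two_le; omega⟩
    have hne : ∀ a b : Fin i0, (p : ZMod s) ^ (a : ℕ) ≠ -(p : ZMod s) ^ (b : ℕ) := by
      intro a b hab
      have h1 : ((p : ZMod s) ^ (a : ℕ)) ^ i0 = (-(p : ZMod s) ^ (b : ℕ)) ^ i0 := by rw [hab]
      have hodd : Odd i0 := Nat.not_even_iff_odd.mp (fun he => hev he.two_dvd)
      rw [hodd.neg_pow, ← pow_mul, mul_comm, pow_mul, hpi, one_pow, ← pow_mul, mul_comm, pow_mul, hpi, one_pow] at h1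
      exact ZMod.neg_one_ne_one h1.symm
    have hF : Function.Injective F := by
      rintro ⟨a, u⟩ ⟨b, w⟩ hab
      cases u <;> cases w <;> simp only [F, Bool.false_eq_true, if_false, if_true] at hab <;>
        have h1 := congrArg Subtype.val hab <;> simp only [← pow_mul] at h1 <;> have h2 := hτeq _ _ h1 <;>
        push_cast [hneg] at h2 <;> try simp only [neg_mul, one_mul, neg_inj] at h2
      · rw [hpinj a b h2]
      · exact absurd h2.symm (hne b a)
      · exact absurd h2 (hne a b)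
      · rw [hpinj a b h2]
    have hcard := Nat.card_le_card_of_injective F hF
    rw [Nat.card_prod, Nat.card_fin, Nat.card_eq_fintype_card, Fintype.card_bool, Nat.card_eq_finsetCard] at hcard
    refine ⟨i0, hi0pos, by omega, Or.inl ?_⟩
    rw [← ZMod.natCast_eq_zero_iff, Nat.cast_sub (Nat.one_le_pow _ _ (Fact.out : p.Prime).pos)]
    push_cast
    rw [hpi, sub_self]

end CfsgLib.Recognition.NearField.PrimeOrder
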