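import Mathlib
import Cfsg.Agent.Lib.Recognition.NearField.PrimeOrder

/-!
Groups with central commutators in a linear group: the bound on the central quotient and its automorphisms.
-/

set_option linter.style.haveILetI false

namespace CfsgLib.Recognition.NearField.CentralQuotient

open Subgroup

/-- Eigenvectors with distinct characters are independent. -/
theorem independent {K W ι κ : Type*} [Field K] [AddCommGroup W] [Module K W] (E : ι → W) (hE : ∀ a, E a ≠ 0)
    (L : κ → W →ₗ[K] W) (χ : κ → ι → K) (hL : ∀ k a, L k (E a) = χ k a • E a)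
    (hsep : ∀ a b, a ≠ b → ∃ k, χ k a ≠ χ k b) : LinearIndependent K E := by
  classical
  rw [linearIndependent_iff']
  intro S
  induction S using Finset.induction with
  | empty => intro g _ a ha; exact absurd ha (Finset.notMem_empty a)
  | @insert a0 S ha0 ih =>
    intro g hg
    rw [Finset.sum_insert ha0] at hg
    have hzero : ∀ a ∈ S, g a = 0 := by
      intro a ha
      obtain ⟨k, hk⟩ := hsep a a0 (fun e => ha0 (e ▸ ha))
      have h1 : ∑ b ∈ S, (g b * (χ k b - χ k a0)) • E b = 0 := by
        have h2 := congrArg (L k) hg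
        rw [map_add, map_smul, hL, map_sum, map_zero] at h2
        have h3 : χ k a0 • (g a0 • E a0 + ∑ b ∈ S, g b • E b) = 0 := by rw [hg, smul_zero]
        rw [smul_add, Finset.smul_sum] at h3
        calc _ = ∑ b ∈ S, (L k (g b • E b) - χ k a0 • g b • E b) := Finset.sum_congr rfl fun b _ => by
              rw [map_smul, hL, smul_smul, smul_smul, ← sub_smul, mul_sub, mul_comm (χ k a0)]
          _ = (g a0 • χ k a0 • E a0 + ∑ b ∈ S, L k (g b • E b)) -
              (χ k a0 • g a0 • E a0 + ∑ b ∈ S, χ k a0 • g b • E b) := by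
              rw [Finset.sum_sub_distrib, smul_comm (g a0)]; abel
          _ = 0 := by rw [h2, h3, sub_zero]
      exact (mul_eq_zero.mp (ih _ h1 a ha)).resolve_right (sub_ne_zero.mpr hk)
    intro a ha
    rcases Finset.mem_insert.mp ha with rfl | ha'
    · rw [Finset.sum_eq_zero (fun b hb => by rw [hzero b hb, zero_smul]), add_zero] at hg
      exact (smul_eq_zero.mp hg).resolve_right (hE _)
    · exact hzero a ha'

section span

variable {K : Type*} [Field K] {V : Type*} [AddCommGroup V] [Module K V] [Finite V] [Nontrivial V]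
  {M : Type*} [Group M] [Finite M] (σ : M →* Module.End K V)

omit [Finite M] [Finite V] [Nontrivial V] in
theorem commute_of_scalar {z : M} (hz : ∃ c : K, σ z = c • 1) (Y : Module.End K V) : Commute (σ z) Y := by
  obtain ⟨c, hc⟩ := hz
  rw [hc]
  exact (Commute.one_left Y).smul_left c

/-- The central quotient is bounded by the square of the dimension; at the bound the group spans. -/
theorem card_quotient_le (hσ : Function.Injective σ) (hscalar : ∀ z ∈ center M, ∃ c : K, σ z = c • 1)
    (hc : ∀ u v : M, u * v * u⁻¹ * v⁻¹ ∈ center M) :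
    Nat.card (M ⧸ center M) ≤ Module.finrank K V ^ 2 ∧
      (Nat.card (M ⧸ center M) = Module.finrank K V ^ 2 →
        ∀ Y : Module.End K V, (∀ u, Commute (σ u) Y) → ∃ c : K, Y = c • 1) := by
  classical
  haveI : Fintype (M ⧸ center M) := Fintype.ofFinite _
  haveI : Module.Finite K V := Module.Finite.of_finite
  let E : M ⧸ center M → Module.End K V := fun a => σ a.out
  have hE : ∀ a, E a ≠ 0 := by
    intro a h0
    obtain ⟨v, hv⟩ := exists_ne (0 : V)
    have h1 : σ a.out⁻¹ * σ a.out = 1 := by rw [← map_mul, inv_mul_cancel, map_one]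
    rw [show σ a.out = 0 from h0, mul_zero] at h1
    exact hv (DFunLike.congr_fun h1 v).symm
  have hsc : ∀ (v : M) (a : M ⧸ center M), ∃ c : K, σ (v * a.out * v⁻¹ * a.out⁻¹) = c • 1 :=
    fun v a => hscalar _ (hc v a.out)
  choose χ hχ using hsc
  let L : M → Module.End K V →ₗ[K] Module.End K V :=
    fun v => (LinearMap.mulLeft K (σ v)).comp (LinearMap.mulRight K (σ v⁻¹))
  have hL : ∀ v a, L v (E a) = χ v a • E a := by
    intro v a
    show σ v * (σ a.out * σ v⁻¹) = _
    rw [← map_mul, ← map_mul, show v * (a.out * v⁻¹) = (v * a.out * v⁻¹ * a.out⁻¹) * a.out by group, map_mul, hχ,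
      smul_mul_assoc, one_mul]
  have hsep : ∀ a b, a ≠ b → ∃ v, χ v a ≠ χ v b := by
    intro a b hab
    by_contra hall
    push Not at hall
    apply hab
    rw [← QuotientGroup.out_eq' a, ← QuotientGroup.out_eq' b]
    refine QuotientGroup.eq.mpr (mem_center_iff.mpr fun w => ?_)
    have h1 : σ (w * a.out * w⁻¹ * a.out⁻¹) = σ (w * b.out * w⁻¹ * b.out⁻¹) := by rw [hχ, hχ, hall]
    have h2 := hσ h1
    rw [mul_assoc w, mul_assoc w, mul_assoc w, mul_assoc w] at h2
    have h3 := mul_left_cancel h2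
    calc w * (a.out⁻¹ * b.out) = w * a.out⁻¹ * (b.out * w⁻¹ * b.out⁻¹) * b.out * w := by group
      _ = w * a.out⁻¹ * (a.out * w⁻¹ * a.out⁻¹) * b.out * w := by rw [h3]
      _ = a.out⁻¹ * b.out * w := by group
  have hli := independent E hE L χ hL hsep
  have hdim : Module.finrank K (Module.End K V) = Module.finrank K V ^ 2 := by
    rw [pow_two]; exact Module.finrank_linearMap K K V V
  refine ⟨?_, fun heq Y hY => ?_⟩
  · rw [← hdim, Nat.card_eq_fintype_card]
    exact hli.fintype_card_le_finrank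
  have hspan : Submodule.span K (Set.range E) = ⊤ :=
    hli.span_eq_top_of_card_eq_finrank (by rw [← Nat.card_eq_fintype_card, heq, hdim])
  have hall : ∀ Z : Module.End K V, Commute Z Y := by
    intro Z
    have hZ : Z ∈ Submodule.span K (Set.range E) := hspan ▸ Submodule.mem_top
    induction hZ using Submodule.span_induction with
    | mem z hz => obtain ⟨a, rfl⟩ := hz; exact hY _
    | zero => exact Commute.zero_left Y
    | add z w _ _ hz hw => exact hz.add_left hw
    | smul c z _ hz => exact hz.smul_left c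
  obtain ⟨c, hcc, hc'⟩ := Module.End.mem_center_iff.mp (Semigroup.mem_center_iff.mpr fun Z => hall Z)
  exact ⟨c, hc'.trans (LinearMap.ext fun v => rfl)⟩

end span

section auto

variable {M : Type*} [Group M]

/-- The action on the central quotient. -/
def qaut : MulAut M →* MulAut (M ⧸ center M) where
  toFun e := QuotientGroup.congr (center M) (center M) e (by
    refine le_antisymm ?_ fun z hz => ⟨e.symm z, mem_center_iff.mpr fun x => ?_, e.apply_symm_apply z⟩
    · rintro _ ⟨z, hz, rfl⟩
      refine mem_center_iff.mpr fun x => ?_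
      obtain ⟨y, rfl⟩ := e.surjective x
      show e y * e z = e z * e y
      rw [← map_mul, ← map_mul, mem_center_iff.mp hz]
    · apply e.injective
      rw [map_mul, map_mul, e.apply_symm_apply, mem_center_iff.mp hz])
  map_one' := MulEquiv.ext fun a => by
    obtain ⟨u, rfl⟩ := QuotientGroup.mk_surjective a
    rfl
  map_mul' e e' := MulEquiv.ext fun a => by
    obtain ⟨u, rfl⟩ := QuotientGroup.mk_surjective a
    rfl

theorem qaut_mk (e : MulAut M) (u : M) : qaut e (u : M ⧸ center M) = ((e u : M) : M ⧸ center M) := rfl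

theorem qaut_eq_one_iff (e : MulAut M) : qaut e = 1 ↔ ∀ u, u⁻¹ * e u ∈ center M := by
  constructor
  · intro h u
    exact QuotientGroup.eq.mp (show ((u : M) : M ⧸ center M) = ((e u : M) : M ⧸ center M) by rw [← qaut_mk, h]; rfl)
  · intro h
    refine MulEquiv.ext fun a => ?_
    obtain ⟨u, rfl⟩ := QuotientGroup.mk_surjective a
    rw [qaut_mk]
    exact (QuotientGroup.eq.mpr (h u)).symm

/-- An automorphism of order prime to the centre, trivial on the centre and its quotient, is trivial. -/
theorem eq_one_of_trivial [Finite M] (e : MulAut M) (hz : ∀ z ∈ center M, e z = z) (hq : qaut e = 1) {s : ℕ}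
    (hes : e ^ s = 1) (hcop : Nat.Coprime (Nat.card (center M)) s) : e = 1 := by
  refine MulEquiv.ext fun u => ?_
  set c : center M := ⟨u⁻¹ * e u, (qaut_eq_one_iff e).mp hq u⟩
  have hpow : ∀ k : ℕ, (e ^ k) u = u * (c : M) ^ k := by
    intro k
    induction k with
    | zero => simp
    | succ k ih =>
      rw [pow_succ', MulAut.mul_apply, ih, map_mul, map_pow, hz _ c.2, pow_succ', ← mul_assoc]
      congr 1
      simp [c]
  have h1 := hpow s
  rw [hes, MulAut.one_apply] at h1
  have h2 : c ^ s = 1 := by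
    apply Subtype.ext
    rw [SubgroupClass.coe_pow, OneMemClass.coe_one]
    exact left_eq_mul.mp h1
  have h3 : orderOf c ∣ 1 := hcop ▸ Nat.dvd_gcd (orderOf_dvd_natCard c) (orderOf_dvd_of_pow_eq_one h2)
  rw [Nat.dvd_one, orderOf_eq_one_iff] at h3
  have h4 := congrArg Subtype.val h3
  simp only [c, OneMemClass.coe_one] at h4
  exact (inv_mul_eq_one.mp h4).symm

theorem pairing_bound_add {W : Type*} [AddCommGroup W] [Finite W] {A : Type*} [AddCommGroup A] {p : ℕ} [Fact p.Prime]
    [Module (ZMod p) W] (ω : W →+ W →+ A) (hnd : ∀ b, (∀ a, ω a b = 0) → b = 0) (e : W →+ W)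
    (hω : ∀ a b, ω (e a) (e b) = ω a b) {s : ℕ} (hs : s.Prime) (hs2 : s ≠ 2) (hsp : s ≠ p)
    (hes : ∀ a, e^[s] a = a) (he : ∃ a, e a ≠ a) :
    ∃ i, 0 < i ∧ p ^ (2 * i) ≤ Nat.card W ∧ (s ∣ p ^ i - 1 ∨ s ∣ p ^ i + 1) := by
  obtain ⟨i, hi, hi2, hdiv⟩ := PrimeOrder.pairing_bound (p := p) ω hnd (e.toZModLinearMap p) hω hs hs2 hsp
    (LinearMap.ext fun a => by rw [Module.End.pow_apply]; exact hes a)
    (fun h => by obtain ⟨a, ha⟩ := he; exact ha (DFunLike.congr_fun h a))
  refine ⟨i, hi, ?_, hdiv⟩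
  rw [Module.natCard_eq_pow_finrank (K := ZMod p) (V := W), Nat.card_zmod]
  exact Nat.pow_le_pow_right (Fact.out : p.Prime).pos hi2

theorem pairing_bound_mul {Q : Type*} [CommGroup Q] [Finite Q] {A : Type*} [CommGroup A] {p : ℕ} [Fact p.Prime]
    (hexp : ∀ a : Q, a ^ p = 1) (ω : Q →* Q →* A) (hnd : ∀ b, (∀ a, ω a b = 1) → b = 1) (e : MulAut Q)
    (hω : ∀ a b, ω (e a) (e b) = ω a b) {s : ℕ} (hs : s.Prime) (hs2 : s ≠ 2) (hsp : s ≠ p) (hes : e ^ s = 1)
    (he : e ≠ 1) : ∃ i, 0 < i ∧ p ^ (2 * i) ≤ Nat.card Q ∧ (s ∣ p ^ i - 1 ∨ s ∣ p ^ i + 1) := by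
  have hexp' : ∀ x : Additive Q, p • x = 0 := fun x => hexp x.toMul
  have hpow : ∀ (k : ℕ) (a : Q), (e ^ k) a = (⇑e)^[k] a := by
    intro k
    induction k with
    | zero => intro a; rfl
    | succ k ih => intro a; rw [pow_succ', MulAut.mul_apply, ih, Function.iterate_succ_apply']
  refine @pairing_bound_add (Additive Q) _ _ (Additive A) _ p _ (AddCommGroup.zmodModule hexp')
    { toFun := fun a => MonoidHom.toAdditive (ω a.toMul)
      map_zero' := by ext b; simp
      map_add' := fun a b => by ext c; simp }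
    (fun b hb => hnd b.toMul fun a => hb (Additive.ofMul a)) (MonoidHom.toAdditive (e : Q →* Q))
    (fun a b => hω a.toMul b.toMul) s hs hs2 hsp (fun a => ?_) ?_
  · show (⇑e)^[s] a.toMul = a.toMul
    rw [← hpow, hes, MulAut.one_apply]
  · by_contra hall
    push Not at hall
    exact he (MulEquiv.ext fun a => hall (Additive.ofMul a))

/-- The bound for automorphisms of prime order of the central quotient. -/
theorem pairing_bound [Finite M] {p : ℕ} [Fact p.Prime] (hc : ∀ u v : M, u * v * u⁻¹ * v⁻¹ ∈ center M)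
    (hp : ∀ u : M, u ^ p ∈ center M) (e : MulAut M) (hz : ∀ z ∈ center M, e z = z) {s : ℕ} (hs : s.Prime)
    (hs2 : s ≠ 2) (hsp : s ≠ p) (hes : e ^ s = 1) (hne : qaut e ≠ 1) :
    ∃ i, 0 < i ∧ p ^ (2 * i) ≤ Nat.card (M ⧸ center M) ∧ (s ∣ p ^ i - 1 ∨ s ∣ p ^ i + 1) := by
  letI : CommGroup (center M) :=
    { (inferInstance : Group (center M)) with mul_comm := fun a b => Subtype.ext (mem_center_iff.mp b.2 a) }
  let c : M → M → center M := fun u v => ⟨u * v * u⁻¹ * v⁻¹, hc u v⟩
  have hright : ∀ u v w, c u (v * w) = c u v * c u w := fun u v w => Subtype.ext (by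
    show u * (v * w) * u⁻¹ * (v * w)⁻¹ = u * v * u⁻¹ * v⁻¹ * (u * w * u⁻¹ * w⁻¹)
    calc _ = u * v * u⁻¹ * ((u * w * u⁻¹ * w⁻¹) * v⁻¹) := by group
      _ = u * v * u⁻¹ * (v⁻¹ * (u * w * u⁻¹ * w⁻¹)) := by rw [mem_center_iff.mp (hc u w) v⁻¹]
      _ = _ := by simp only [mul_assoc])
  have hleft : ∀ u v w, c (u * v) w = c u w * c v w := fun u v w => Subtype.ext (by
    show u * v * w * (u * v)⁻¹ * w⁻¹ = u * w * u⁻¹ * w⁻¹ * (v * w * v⁻¹ * w⁻¹)
    calc _ = u * (v * w * v⁻¹ * w⁻¹) * (w * u⁻¹ * w⁻¹) := by group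
      _ = u * ((w * u⁻¹ * w⁻¹) * (v * w * v⁻¹ * w⁻¹)) := by rw [mul_assoc, ← mem_center_iff.mp (hc v w)]
      _ = _ := by simp only [mul_assoc])
  have hcen : ∀ u z, z ∈ center M → c u z = 1 := fun u z hz' => Subtype.ext (by
    show u * z * u⁻¹ * z⁻¹ = 1
    rw [mem_center_iff.mp hz' u, mul_inv_cancel_right, mul_inv_cancel])
  have hcen' : ∀ u z, z ∈ center M → c z u = 1 := fun u z hz' => Subtype.ext (by
    show z * u * z⁻¹ * u⁻¹ = 1
    rw [← mem_center_iff.mp hz' u, mul_inv_cancel_right, mul_inv_cancel])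
  let ωr : M → (M ⧸ center M →* center M) := fun u =>
    QuotientGroup.lift _ (MonoidHom.mk' (c u) (hright u)) (fun z hz' => hcen u z hz')
  let ω : M ⧸ center M →* (M ⧸ center M →* center M) :=
    QuotientGroup.lift _ (MonoidHom.mk' ωr (fun u v => MonoidHom.ext fun a => by
      obtain ⟨w, rfl⟩ := QuotientGroup.mk_surjective a
      exact hleft u v w)) (fun z hz' => MonoidHom.ext fun a => by
      obtain ⟨w, rfl⟩ := QuotientGroup.mk_surjective a
      exact hcen' w z hz')
  have hcommQ : ∀ a b : M ⧸ center M, a * b = b * a := by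
    intro a b
    obtain ⟨u, rfl⟩ := QuotientGroup.mk_surjective a
    obtain ⟨v, rfl⟩ := QuotientGroup.mk_surjective b
    rw [← QuotientGroup.mk_mul, ← QuotientGroup.mk_mul]
    refine (QuotientGroup.eq.mpr ?_).symm
    simpa [mul_assoc] using hc u⁻¹ v⁻¹
  letI : CommGroup (M ⧸ center M) := { (inferInstance : Group (M ⧸ center M)) with mul_comm := hcommQ }
  refine pairing_bound_mul ?_ ω ?_ (qaut e) ?_ hs hs2 hsp (by rw [← map_pow, hes, map_one]) hne
  · intro a
    obtain ⟨u, rfl⟩ := QuotientGroup.mk_surjective a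
    rw [← QuotientGroup.mk_pow, QuotientGroup.eq_one_iff]
    exact hp u
  · intro b hb
    obtain ⟨v, rfl⟩ := QuotientGroup.mk_surjective b
    rw [QuotientGroup.eq_one_iff, mem_center_iff]
    intro u
    have h1 : u * v * u⁻¹ * v⁻¹ = 1 := congrArg Subtype.val (hb (u : M ⧸ center M))
    exact mul_inv_eq_iff_eq_mul.mp (mul_inv_eq_one.mp h1)
  · intro a b
    obtain ⟨u, rfl⟩ := QuotientGroup.mk_surjective a
    obtain ⟨v, rfl⟩ := QuotientGroup.mk_surjective b
    show c (e u) (e v) = c u v
    refine Subtype.ext ?_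
    show e u * e v * (e u)⁻¹ * (e v)⁻¹ = u * v * u⁻¹ * v⁻¹
    rw [← map_inv, ← map_inv, ← map_mul, ← map_mul, ← map_mul, hz _ (hc u v)]

/-- No nontrivial fixed point for an automorphism of order `2 ^ i + 1` of a group of order at most `2 ^ (2 * i)`. -/
theorem fix_free {Q : Type*} [Group Q] [Finite Q] (hQ : IsPGroup 2 Q) {i : ℕ} (hi : 0 < i)
    (hcard : Nat.card Q ≤ 2 ^ (2 * i)) (hs : Nat.Prime (2 ^ i + 1)) (e : MulAut Q) (hes : e ^ (2 ^ i + 1) = 1)
    (he : e ≠ 1) {a : Q} (ha : e a = a) : a = 1 := by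
  classical
  haveI := Fact.mk hs
  haveI : Fact (Nat.Prime 2) := ⟨Nat.prime_two⟩
  by_contra ha1
  let H := Subgroup.zpowers e
  have hH : IsPGroup (2 ^ i + 1) H := IsPGroup.of_card (n := 1) (by
    rw [Nat.card_zpowers, orderOf_eq_prime hes he, pow_one])
  let F : Subgroup Q :=
    { carrier := {x | e x = x}
      mul_mem' := fun {x y} hx hy => show e (x * y) = x * y by rw [map_mul, hx, hy]
      one_mem' := map_one e
      inv_mem' := fun {x} hx => show e x⁻¹ = x⁻¹ by rw [map_inv, hx] }
  have hfix : Nat.card (MulAction.fixedPoints H Q) = Nat.card F := by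
    refine Nat.card_congr (Equiv.subtypeEquivRight fun x => ⟨fun hx => hx ⟨e, Subgroup.mem_zpowers e⟩, fun hx => ?_⟩)
    rintro ⟨f, hf⟩
    obtain ⟨k, rfl⟩ := Subgroup.mem_zpowers_iff.mp hf
    have hst : e ∈ MulAction.stabilizer (MulAut Q) x := hx
    exact (MulAction.stabilizer (MulAut Q) x).zpow_mem hst k
  have hmod := hH.card_modEq_card_fixedPoints Q
  rw [hfix] at hmod
  obtain ⟨j, hj⟩ := IsPGroup.iff_card.mp hQ
  obtain ⟨f, hf⟩ := IsPGroup.iff_card.mp (hQ.to_subgroup F)
  rw [hj, hf] at hmod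
  have hfle : f ≤ j := by
    have := Subgroup.card_le_card_group F
    rw [hj, hf] at this
    exact (Nat.pow_le_pow_iff_right (by norm_num)).mp this
  have hf0 : 1 ≤ f := by
    rcases Nat.eq_zero_or_pos f with rfl | h
    · rw [pow_zero, Subgroup.card_eq_one] at hf
      exact absurd ((Subgroup.eq_bot_iff_forall F).mp hf a ha) ha1
    · exact h
  have hlt : f < j := by
    refine lt_of_le_of_ne hfle fun hfj => he (MulEquiv.ext fun x => ?_)
    have hFtop : F = ⊤ := Subgroup.eq_top_of_card_eq F (by rw [hf, hj, hfj])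
    exact (hFtop ▸ Subgroup.mem_top x : x ∈ F)
  have hj2 : j ≤ 2 * i := by rw [hj] at hcard; exact (Nat.pow_le_pow_iff_right (by norm_num)).mp hcard
  obtain ⟨k, rfl⟩ := Nat.exists_eq_add_of_le hfle
  have h1 : 2 ^ i + 1 ∣ 2 ^ f * (2 ^ k - 1) := by
    rw [Nat.mul_sub, mul_one, ← pow_add]
    exact (Nat.modEq_iff_dvd' (Nat.pow_le_pow_right (by norm_num) hfle)).mp hmod.symm
  have h2 : 2 ^ i + 1 ∣ 2 ^ k - 1 := by
    refine ((Nat.Coprime.pow_right f ?_).dvd_of_dvd_mul_left h1)
    rw [Nat.coprime_primes hs Nat.prime_two]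
    have := Nat.one_lt_two_pow hi.ne'
    omega
  have hkpos : 0 < 2 ^ k - 1 := by have := Nat.one_lt_two_pow (show k ≠ 0 by omega); omega
  by_cases hki : k ≤ i
  · have := Nat.le_of_dvd hkpos h2
    have := Nat.pow_le_pow_right (show 0 < 2 by norm_num) hki
    omega
  · obtain ⟨l, rfl⟩ := Nat.exists_eq_add_of_le (show i ≤ k by omega)
    have h3 : 2 ^ i + 1 ∣ 2 ^ l + 1 := by
      have h4 : 2 ^ i + 1 ∣ 2 ^ l * (2 ^ i + 1) := Dvd.intro_left _ rfl
      have h5 : (2 ^ (i + l) - 1) + (2 ^ l + 1) = 2 ^ l * (2 ^ i + 1) := by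
        have := Nat.one_le_two_pow (n := i + l)
        have := Nat.one_le_two_pow (n := l)
        rw [mul_add, mul_one, ← pow_add, add_comm l i]; omega
      rw [← h5] at h4
      exact (Nat.dvd_add_right h2).mp h4
    have := Nat.le_of_dvd (Nat.succ_pos _) h3
    have := Nat.pow_lt_pow_right (show 1 < 2 by norm_num) (show l < i by omega)
    omega

/-- Automorphisms trivial on a cyclic centre of index four. -/
theorem card_aut_dvd [Finite M] [IsCyclic (center M)] (hcard : Nat.card (M ⧸ center M) = 4)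
    (hp : ∀ u : M, u ^ 2 ∈ center M) (E : Subgroup (MulAut M)) (hE : ∀ e ∈ E, ∀ z ∈ center M, e z = z) :
    Nat.card E ∣ 24 := by
  classical
  let Ψ : E →* MulAut (M ⧸ center M) := qaut.comp E.subtype
  have hrange : Nat.card Ψ.range ∣ 6 := by
    let S := {a : M ⧸ center M // a ≠ 1}
    let P : MulAut (M ⧸ center M) →* Equiv.Perm S :=
      { toFun := fun f => f.toEquiv.subtypeEquiv (fun a => by simp)
        map_one' := Equiv.ext fun a => rfl
        map_mul' := fun f g => Equiv.ext fun a => rfl }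
    have hP : Function.Injective P := by
      intro f g hfg
      refine MulEquiv.ext fun a => ?_
      by_cases ha : a = 1
      · rw [ha, map_one, map_one]
      · exact congrArg Subtype.val (Equiv.congr_fun hfg ⟨a, ha⟩)
    have hS : Nat.card S = 3 := by
      haveI : Fintype (M ⧸ center M) := Fintype.ofFinite _
      rw [Nat.card_eq_fintype_card, Fintype.card_subtype_compl, Fintype.card_subtype_eq,
        ← Nat.card_eq_fintype_card, hcard]
    have h6 : Nat.card (Equiv.Perm S) = 6 := by rw [Nat.card_perm, hS]; rfl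
    rw [← h6, Nat.card_congr (Subgroup.equivMapOfInjective Ψ.range P hP).toEquiv]
    exact Subgroup.card_subgroup_dvd_card _
  have hker : Nat.card Ψ.ker ∣ 4 := by
    haveI : Fintype (M ⧸ center M) := Fintype.ofFinite _
    obtain ⟨a, ha⟩ : ∃ a : M ⧸ center M, a ≠ 1 := Fintype.exists_ne_of_one_lt_card (by
      rw [← Nat.card_eq_fintype_card, hcard]; norm_num) 1
    obtain ⟨b, -, hb⟩ := Finset.exists_mem_notMem_of_card_lt_card (s := ({1, a} : Finset (M ⧸ center M))) (t := Finset.univ) (by
      rw [Finset.card_pair ha.symm, Finset.card_univ, ← Nat.card_eq_fintype_card, hcard]; norm_num)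
    obtain ⟨u, rfl⟩ := QuotientGroup.mk_surjective a
    obtain ⟨v, rfl⟩ := QuotientGroup.mk_surjective b
    let T : Subgroup (center M) :=
      { carrier := {c | c ^ 2 = 1}
        mul_mem' := fun {x y} hx hy => show (x * y) ^ 2 = 1 by rw [(show Commute x y from Subtype.ext (mem_center_iff.mp y.2 x)).mul_pow, hx, hy, one_mul]
        one_mem' := one_pow 2
        inv_mem' := fun {x} hx => show x⁻¹ ^ 2 = 1 by rw [inv_pow, hx, inv_one] }
    have hT : Nat.card T ≤ 2 := by
      letI : CommGroup (center M) := IsCyclic.commGroup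
      haveI : Fintype (center M) := Fintype.ofFinite _
      rw [Nat.card_eq_fintype_card]
      refine le_trans (le_of_eq ?_) (IsCyclic.card_pow_eq_one_le (α := center M) (n := 2) two_pos)
      rw [Fintype.card_subtype]
      congr 1
      ext x
      simp only [Finset.mem_filter, Finset.mem_univ, true_and]
      rfl
    have hval : ∀ (e : Ψ.ker) (w : M), (⟨w⁻¹ * (e : MulAut M) w, (qaut_eq_one_iff _).mp (MonoidHom.mem_ker.mp e.2) w⟩ : center M) ∈ T := by
      intro e w
      refine Subtype.ext ?_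
      rw [SubgroupClass.coe_pow, OneMemClass.coe_one]
      have hc' := (qaut_eq_one_iff _).mp (MonoidHom.mem_ker.mp e.2) w
      show (w⁻¹ * (e : MulAut M) w) ^ 2 = 1
      have h1 : (e : MulAut M) w = w * (w⁻¹ * (e : MulAut M) w) := (mul_inv_cancel_left _ _).symm
      have h2 := hE _ (e : E).2 _ (hp w)
      rw [map_pow, h1, (show Commute w (w⁻¹ * (e : MulAut M) w) from mem_center_iff.mp hc' w).mul_pow] at h2
      exact mul_eq_left.mp h2
    let φ : Ψ.ker →* T × T := MonoidHom.mk' (fun e => (⟨_, hval e u⟩, ⟨_, hval e v⟩)) (fun e f => by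
      have hmul : ∀ w : M, w⁻¹ * (e : MulAut M) ((f : MulAut M) w) =
          w⁻¹ * (e : MulAut M) w * (w⁻¹ * (f : MulAut M) w) := by
        intro w
        conv_lhs => rw [← mul_inv_cancel_left w ((f : MulAut M) w)]
        rw [map_mul, hE _ (e : E).2 (w⁻¹ * (f : MulAut M) w) ((qaut_eq_one_iff _).mp (MonoidHom.mem_ker.mp f.2) w),
          mul_assoc]
      exact Prod.ext (Subtype.ext (Subtype.ext (hmul u))) (Subtype.ext (Subtype.ext (hmul v))))
    have hφ : Function.Injective φ := by
      rw [injective_iff_map_eq_one]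
      intro e he
      have heu : (e : MulAut M) u = u := by
        have h := congrArg (fun x => ((x.1 : T) : M)) he
        exact (inv_mul_eq_one.mp h).symm
      have hev : (e : MulAut M) v = v := by
        have h := congrArg (fun x => ((x.2 : T) : M)) he
        exact (inv_mul_eq_one.mp h).symm
      let F : Subgroup M := MonoidHom.eqLocus ((e : MulAut M) : M →* M) (MonoidHom.id M)
      have hFz : center M ≤ F := fun z hz => hE _ (e : E).2 z hz
      let Fq : Subgroup (M ⧸ center M) := F.map (QuotientGroup.mk' _)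
      have hthree : ({1, (u : M ⧸ center M), (v : M ⧸ center M)} : Finset (M ⧸ center M)) ⊆
          (Set.toFinite (Fq : Set (M ⧸ center M))).toFinset := by
        intro x hx
        simp only [Finset.mem_insert, Finset.mem_singleton] at hx
        rw [Set.Finite.mem_toFinset]
        rcases hx with rfl | rfl | rfl
        · exact Fq.one_mem
        · exact ⟨u, heu, rfl⟩
        · exact ⟨v, hev, rfl⟩
      have hge : 3 ≤ Nat.card Fq := by
        refine le_trans (le_of_eq ?_) ((Finset.card_le_card hthree).trans (le_of_eq (Nat.card_eq_card_finite_toFinset _).symm))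
        simp only [Finset.mem_insert, Finset.mem_singleton, not_or] at hb
        rw [Finset.card_insert_of_notMem (by simp [ha.symm, Ne.symm hb.1]), Finset.card_pair (Ne.symm hb.2)]
      have hd : Nat.card Fq ∣ 4 := hcard ▸ Subgroup.card_subgroup_dvd_card Fq
      have hle := Nat.le_of_dvd (by norm_num) hd
      have h4 : Nat.card Fq = 4 := by
        interval_cases hc4 : Nat.card Fq
        · norm_num at hd
        · rfl
      have htop : Fq = ⊤ := Subgroup.eq_top_of_card_eq _ (by rw [h4, hcard])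
      refine Subtype.ext (Subtype.ext (MulEquiv.ext fun w => ?_))
      obtain ⟨w', hw', heq⟩ : (w : M ⧸ center M) ∈ Fq := htop ▸ Subgroup.mem_top _
      have hw : w ∈ F := by
        have h5 := F.mul_mem hw' (hFz (QuotientGroup.eq.mp heq))
        rwa [mul_inv_cancel_left] at h5
      exact hw
    have hd : Nat.card T ∣ 2 := by
      have hpos : 0 < Nat.card T := Nat.card_pos
      interval_cases hT2 : Nat.card T <;> norm_num
    refine (Subgroup.card_dvd_of_injective φ hφ).trans ?_
    rw [Nat.card_prod]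
    exact Nat.mul_dvd_mul hd hd
  rw [← Ψ.ker.card_mul_index, Subgroup.index_ker]
  exact Nat.mul_dvd_mul hker hrange

end auto

end CfsgLib.Recognition.NearField.CentralQuotient
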