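import Mathlib
import Cfsg.Agent.Lib.Recognition.NearField.Main
import Cfsg.Agent.Lib.Recognition.NearField.PrimeOrder
import Cfsg.Agent.Lib.Recognition.NearField.CentralQuotient
import Cfsg.Agent.NumberTheory.PrimitivePart

/-!
Solvable linear groups transitive on the nonzero vectors.
-/

set_option linter.style.haveILetI false

namespace CfsgLib.Recognition.NearField.Huppert

open Polynomial

variable {q : ℕ} [Fact q.Prime] {V : Type*} [AddCommGroup V] [Module (ZMod q) V] [Finite V] [Nontrivial V]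
  {G : Type*} [Group G] [Finite G] {ρ : G →* Module.End (ZMod q) V}

omit [Finite V] [Nontrivial V] [Finite G] in
theorem ρ_mul_apply (a b : G) (v : V) : ρ (a * b) v = ρ a (ρ b v) := by rw [map_mul]; rfl

omit [Finite V] [Nontrivial V] in
/-- Normal abelian subgroups are fixed-point-free. -/
theorem fpf_of_normal (hinj : Function.Injective ρ) (htr : ∀ v w : V, v ≠ 0 → w ≠ 0 → ∃ g, ρ g v = w)
    (A : Subgroup G) [A.Normal] (hA : ∀ a ∈ A, ∀ b ∈ A, a * b = b * a) {a : G} (ha : a ∈ A) {v0 : V}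
    (hv0 : v0 ≠ 0) (hfix : ρ a v0 = v0) : a = 1 := by
  by_contra ha1
  let S : V → Subgroup G := fun v =>
    { carrier := {c | c ∈ A ∧ ρ c v = v}
      mul_mem' := fun {x y} hx hy => ⟨A.mul_mem hx.1 hy.1, by rw [ρ_mul_apply, hy.2, hx.2]⟩
      one_mem' := ⟨A.one_mem, by rw [map_one]; rfl⟩
      inv_mem' := fun {x} hx => ⟨A.inv_mem hx.1, by
        have h := apply_inv_self (ρ := ρ) x v
        rwa [hx.2] at h⟩ }
  have hcard : ∀ v w, v ≠ 0 → w ≠ 0 → Nat.card (S v) ≤ Nat.card (S w) := by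
    intro v w hv hw
    obtain ⟨g, rfl⟩ := htr v w hv hw
    refine Nat.card_le_card_of_injective
      (fun c : S v => (⟨g * (c : G) * g⁻¹, (inferInstance : A.Normal).conj_mem _ c.2.1 g, by
        rw [ρ_mul_apply, ρ_mul_apply, apply_inv_self, c.2.2]⟩ : S (ρ g v))) ?_
    intro c d h
    exact Subtype.ext (mul_left_cancel (mul_right_cancel (congrArg Subtype.val h)))
  have heq : ∀ v w, v ≠ 0 → w ≠ 0 → S v ≤ S w → S v = S w := fun v w hv hw h =>
    Subgroup.eq_of_le_of_card_ge h (hcard w v hw hv)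
  obtain ⟨y, hy⟩ : ∃ y, ρ a y ≠ y := by
    by_contra hall
    push Not at hall
    exact ha1 (hinj (by rw [map_one]; exact LinearMap.ext hall))
  have hy0 : y ≠ 0 := fun e => hy (by rw [e, map_zero])
  have hz0 : ρ a y - y ≠ 0 := sub_ne_zero.mpr hy
  have hx0 : v0 + y ≠ 0 := fun e => hy (by rw [eq_neg_of_add_eq_zero_right e, map_neg, hfix])
  have hkey : ∀ w, ρ a w - w = ρ a y - y → S w ≤ S (ρ a y - y) := by
    intro w hw c hc
    refine ⟨hc.1, ?_⟩
    rw [← hw, map_sub, hc.2, ← ρ_mul_apply, hA c hc.1 a ha, ρ_mul_apply, hc.2]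
  have h1 := heq y _ hy0 hz0 (hkey y rfl)
  have h2 := heq (v0 + y) _ hx0 hz0 (hkey _ (by rw [map_add, hfix]; abel))
  have hle : S y ≤ S v0 := fun c hc => by
    have hc' : c ∈ S (v0 + y) := by rw [h2, ← h1]; exact hc
    refine ⟨hc.1, ?_⟩
    have h := hc'.2
    rw [map_add, hc.2] at h
    exact add_right_cancel h
  have : a ∈ S y := by rw [heq y v0 hy0 hv0 hle]; exact ⟨ha, hfix⟩
  exact hy this.2

/-- Normal abelian subgroups are cyclic. -/
theorem cyclic_of_normal (hinj : Function.Injective ρ) (htr : ∀ v w : V, v ≠ 0 → w ≠ 0 → ∃ g, ρ g v = w)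
    (A : Subgroup G) [A.Normal] (hA : ∀ a ∈ A, ∀ b ∈ A, a * b = b * a) : IsCyclic A := by
  have h : Fpf (ρ.comp A.subtype) := fun a v hv h => Subtype.ext (fpf_of_normal hinj htr A hA a.2 hv h)
  haveI := isCyclic_of_comm h ⊤ (fun a _ b _ => Subtype.ext (hA a a.2 b b.2))
  exact isCyclic_of_surjective Subgroup.topEquiv Subgroup.topEquiv.surjective

omit [Finite G] in
theorem dvd_card (htr : ∀ v w : V, v ≠ 0 → w ≠ 0 → ∃ g, ρ g v = w) :
    q ^ Module.finrank (ZMod q) V - 1 ∣ Nat.card G := by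
  letI : MulAction G V := MulAction.compHom V ρ
  obtain ⟨v0, hv0⟩ := exists_ne (0 : V)
  have horb : MulAction.orbit G v0 = {(0 : V)}ᶜ := by
    ext w
    rw [Set.mem_compl_singleton_iff]
    constructor
    · rintro ⟨g, rfl⟩ h0
      have h1 := apply_inv_self (ρ := ρ) g v0
      rw [show ρ g v0 = 0 from h0, map_zero] at h1
      exact hv0 h1.symm
    · exact fun hw => htr v0 w hv0 hw
  have hidx := MulAction.index_stabilizer G v0
  rw [horb, Set.ncard_compl, Set.ncard_singleton, Module.natCard_eq_pow_finrank (K := ZMod q), Nat.card_zmod] at hidx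
  rw [← hidx]
  exact Subgroup.index_dvd_card _

omit [Finite V] [Nontrivial V] [Finite G] in
theorem aeval_conj (x t : G) (s : ℕ) (hs : x * t * x⁻¹ = t ^ s) (P : (ZMod q)[X]) (v : V) :
    aeval (ρ t ^ s) P (ρ x v) = ρ x (aeval (ρ t) P v) := by
  have h : ρ x * ρ t = ρ t ^ s * ρ x := by rw [← map_pow, ← map_mul, ← map_mul, ← hs, inv_mul_cancel_right]
  have hP : ∀ P : (ZMod q)[X], ρ x * aeval (ρ t) P = aeval (ρ t ^ s) P * ρ x := by
    intro P
    induction P using Polynomial.induction_on' with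
    | add a b ha hb => rw [map_add, map_add, mul_add, add_mul, ha, hb]
    | monomial n a =>
      rw [aeval_monomial, aeval_monomial, Algebra.algebraMap_eq_smul_one, smul_mul_assoc, one_mul, smul_mul_assoc,
        one_mul, mul_smul_comm, smul_mul_assoc, (show SemiconjBy (ρ x) (ρ t) (ρ t ^ s) from h).pow_right n]
  exact (DFunLike.congr_fun (hP P) v).symm

omit [Finite G] in
/-- A generator of a cyclic normal subgroup acts homogeneously with one isomorphism type. -/
theorem exists_irreducible (htr : ∀ v w : V, v ≠ 0 → w ≠ 0 → ∃ g, ρ g v = w) (t : G)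
    (hconj : ∀ x : G, ∃ s : ℕ, x * t * x⁻¹ = t ^ s) : ∃ f : (ZMod q)[X], Irreducible f ∧ aeval (ρ t) f = 0 := by
  classical
  set T := ρ t with hT
  have hint : IsIntegral (ZMod q) T := Algebra.IsIntegral.isIntegral T
  obtain ⟨f, hf, ⟨r, hr⟩⟩ := WfDvdMonoid.exists_irreducible_factor
    (not_isUnit_of_degree_pos _ (minpoly.degree_pos hint)) (minpoly.ne_zero hint)
  refine ⟨f, hf, ?_⟩
  have hr0 : aeval T r ≠ 0 := by
    intro h0
    have hr' : r ≠ 0 := fun e => minpoly.ne_zero hint (by rw [hr, e, mul_zero])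
    have h1 := natDegree_le_of_dvd (minpoly.dvd (ZMod q) T h0) hr'
    rw [hr, natDegree_mul hf.ne_zero hr'] at h1
    have := hf.natDegree_pos
    omega
  obtain ⟨u, hu0, hu⟩ : ∃ u : V, u ≠ 0 ∧ aeval T f u = 0 := by
    obtain ⟨v, hv⟩ : ∃ v, aeval T r v ≠ 0 := by
      by_contra hall
      push Not at hall
      exact hr0 (LinearMap.ext hall)
    refine ⟨_, hv, ?_⟩
    rw [← Module.End.mul_apply, ← map_mul, ← hr, minpoly.aeval]
    rfl
  choose σ hσ using hconj
  have hiff : ∀ x v, aeval T f (ρ x v) = ρ x (aeval T (f.comp (X ^ σ x⁻¹)) v) := by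
    intro x v
    rw [aeval_comp, aeval_X_pow]
    have h := aeval_conj (ρ := ρ) x⁻¹ t (σ x⁻¹) (hσ x⁻¹) f (ρ x v)
    rw [apply_inv_self] at h
    rw [h]
    have h2 := apply_inv_self (ρ := ρ) x⁻¹ (aeval (ρ t) f (ρ x v))
    rw [inv_inv] at h2
    rw [hT, h2]
  have hmaps : ∀ x v, v ≠ 0 → aeval T f v = 0 → aeval T f (ρ x v) = 0 →
      ∀ w, aeval T f w = 0 → aeval T f (ρ x w) = 0 := by
    intro x v hv hfv hxv w hw
    set P := f.comp (X ^ σ x⁻¹) with hP
    have hPv : aeval T P v = 0 := by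
      rw [hiff] at hxv
      have h := apply_inv_self (ρ := ρ) x (aeval T P v)
      rw [hxv, map_zero] at h
      exact h.symm
    by_cases hd : f ∣ P
    · obtain ⟨c, hc⟩ := hd
      rw [hiff, ← hP, hc, mul_comm, map_mul, Module.End.mul_apply, hw, map_zero, map_zero]
    · exfalso
      obtain ⟨a, b, hab⟩ := (hf.coprime_iff_not_dvd).mpr hd
      apply hv
      have h := DFunLike.congr_fun (congrArg (aeval T) hab) v
      rw [map_add, map_mul, map_mul, map_one, LinearMap.add_apply, Module.End.mul_apply, Module.End.mul_apply, hfv,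
        hPv, map_zero, map_zero, add_zero, Module.End.one_apply] at h
      exact h.symm
  refine LinearMap.ext fun w => ?_
  rw [LinearMap.zero_apply]
  by_contra hw
  have hw0 : w ≠ 0 := fun e => hw (by rw [e, map_zero])
  have huw : u + w ≠ 0 := fun e => hw (by rw [eq_neg_of_add_eq_zero_right e, map_neg, hu, neg_zero])
  obtain ⟨x, hx⟩ := htr u w hu0 hw0
  obtain ⟨y, hy⟩ := htr u (u + w) hu0 huw
  set P := f.comp (X ^ σ x) with hP
  have hPw : ∀ v, aeval T P v = ρ x (aeval T f (ρ x⁻¹ v)) := by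
    intro v
    rw [hP, aeval_comp, aeval_X_pow, ← aeval_conj (ρ := ρ) x t (σ x) (hσ x) f (ρ x⁻¹ v)]
    have h2 := apply_inv_self (ρ := ρ) x⁻¹ v
    rw [inv_inv] at h2
    rw [hT, h2]
  set z := aeval T P u with hz
  have hzy : z = ρ y (aeval T (P.comp (X ^ σ y⁻¹)) u) := by
    have h1 : aeval T P (ρ y u) = z := by
      rw [hy, map_add, ← hz, hPw w, ← hx, apply_inv_self, hu, map_zero, add_zero]
    rw [← h1]
    conv_rhs => rw [aeval_comp, aeval_X_pow]
    have h := aeval_conj (ρ := ρ) y⁻¹ t (σ y⁻¹) (hσ y⁻¹) P (ρ y u)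
    rw [apply_inv_self] at h
    rw [h]
    have h2 := apply_inv_self (ρ := ρ) y⁻¹ (aeval (ρ t) P (ρ y u))
    rw [inv_inv] at h2
    rw [hT, h2]
  have hz0 : z = 0 := by
    by_contra hne
    set z' := aeval T (P.comp (X ^ σ y⁻¹)) u with hz'
    have hz'0 : z' ≠ 0 := fun e => hne (by rw [hzy, e, map_zero])
    have hfz : ∀ Q : (ZMod q)[X], aeval T f (aeval T Q u) = 0 := fun Q => by
      rw [← Module.End.mul_apply, ← map_mul, mul_comm, map_mul, Module.End.mul_apply, hu, map_zero]
    have h := hmaps y z' hz'0 (hfz _) (hzy ▸ hfz P) u hu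
    rw [hy, map_add, hu, zero_add] at h
    exact hw h
  have hu' : aeval T f (ρ x⁻¹ u) = 0 := by
    rw [hz, hPw] at hz0
    have h := apply_inv_self (ρ := ρ) x (aeval T f (ρ x⁻¹ u))
    rw [hz0, map_zero] at h
    exact h.symm
  have hne : ρ x⁻¹ u ≠ 0 := by
    intro e
    have h2 := apply_inv_self (ρ := ρ) x⁻¹ u
    rw [inv_inv, e, map_zero] at h2
    exact hu0 h2.symm
  have hxu : aeval T f (ρ x (ρ x⁻¹ u)) = 0 := by
    have h2 := apply_inv_self (ρ := ρ) x⁻¹ u
    rw [inv_inv] at h2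
    rw [h2, hu]
  have h := hmaps x _ hne hu' hxu u hu
  rw [hx] at h
  exact hw h

/-- The field generated by an endomorphism with irreducible minimal polynomial. -/
noncomputable def phi {f : (ZMod q)[X]} {T : Module.End (ZMod q) V} (hfT : aeval T f = 0) :
    AdjoinRoot f →+* Module.End (ZMod q) V :=
  Ideal.Quotient.lift (Ideal.span {f}) (aeval T : (ZMod q)[X] →ₐ[ZMod q] _).toRingHom (fun p hp => by
    obtain ⟨c, rfl⟩ := Ideal.mem_span_singleton'.mp hp
    show aeval T (c * f) = 0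
    rw [map_mul, hfT, mul_zero])

omit [Nontrivial V] in
theorem natCard_adjoinRoot {f : (ZMod q)[X]} [Fact (Irreducible f)] :
    Nat.card (AdjoinRoot f) = q ^ f.natDegree := by
  have hf : Irreducible f := Fact.out
  haveI : FiniteDimensional (ZMod q) (AdjoinRoot f) := (AdjoinRoot.powerBasis hf.ne_zero).finite
  haveI : Finite (AdjoinRoot f) := Module.finite_of_finite (ZMod q)
  rw [Module.natCard_eq_pow_finrank (K := ZMod q), Nat.card_zmod, (AdjoinRoot.powerBasis hf.ne_zero).finrank,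
    AdjoinRoot.powerBasis_dim]

omit [Nontrivial V] in
theorem degree_mul {f : (ZMod q)[X]} [Fact (Irreducible f)] [Module (AdjoinRoot f) V] :
    f.natDegree * Module.finrank (AdjoinRoot f) V = Module.finrank (ZMod q) V := by
  have hf : Irreducible f := Fact.out
  haveI : FiniteDimensional (ZMod q) (AdjoinRoot f) := (AdjoinRoot.powerBasis hf.ne_zero).finite
  haveI : Finite (AdjoinRoot f) := Module.finite_of_finite (ZMod q)
  haveI : Module.Finite (AdjoinRoot f) V := Module.Finite.of_finite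
  refine Nat.pow_right_injective (Fact.out : q.Prime).two_le ?_
  simp only
  rw [pow_mul, ← natCard_adjoinRoot, ← Module.natCard_eq_pow_finrank, Module.natCard_eq_pow_finrank (K := ZMod q),
    Nat.card_zmod]

omit [Nontrivial V] in
theorem degree_dvd {f : (ZMod q)[X]} (hf : Irreducible f) {T : Module.End (ZMod q) V} (hfT : aeval T f = 0) :
    f.natDegree ∣ Module.finrank (ZMod q) V := by
  haveI := Fact.mk hf
  letI : Module (AdjoinRoot f) V := Module.compHom V (phi hfT)
  exact Dvd.intro _ (degree_mul (V := V) (f := f))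

omit [Finite G] in
/-- The bound on a normal subgroup which is a central product with the cyclic subgroup. -/
theorem bound (hinj : Function.Injective ρ) (t : G) {f : (ZMod q)[X]} (hf : Irreducible f)
    (hfT : aeval (ρ t) f = 0) (M : Subgroup G) [Finite M] (hMC : M ≤ Subgroup.centralizer {t})
    (hcen : ∀ z ∈ Subgroup.center M, ∃ k : ℕ, (z : G) = t ^ k)
    (hc : ∀ u v : M, u * v * u⁻¹ * v⁻¹ ∈ Subgroup.center M) :
    Nat.card (M ⧸ Subgroup.center M) * f.natDegree ^ 2 ≤ Module.finrank (ZMod q) V ^ 2 ∧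
      (Nat.card (M ⧸ Subgroup.center M) * f.natDegree ^ 2 = Module.finrank (ZMod q) V ^ 2 →
        ∀ y ∈ Subgroup.centralizer (M : Set G) ⊓ Subgroup.centralizer {t},
        ∀ y' ∈ Subgroup.centralizer (M : Set G) ⊓ Subgroup.centralizer {t}, y * y' = y' * y) := by
  classical
  haveI := Fact.mk hf
  letI : Module (AdjoinRoot f) V := Module.compHom V (phi hfT)
  have hn := degree_mul (V := V) (f := f)
  have hlin : ∀ g ∈ Subgroup.centralizer {t}, ∀ (c : AdjoinRoot f) (v : V), ρ g (c • v) = c • ρ g v := by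
    intro g hg c v
    obtain ⟨P, rfl⟩ := AdjoinRoot.mk_surjective c
    have hgt : g * t = t * g := Subgroup.mem_centralizer_singleton_iff.mp hg
    have h := aeval_conj (ρ := ρ) g t 1 (by rw [pow_one, hgt, mul_inv_cancel_right]) P v
    rw [pow_one] at h
    exact h.symm
  let lift : ∀ g, g ∈ Subgroup.centralizer {t} → Module.End (AdjoinRoot f) V := fun g hg =>
    { toFun := ρ g, map_add' := map_add _, map_smul' := hlin g hg }
  let σ : M →* Module.End (AdjoinRoot f) V :=
    { toFun := fun u => lift u (hMC u.2)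
      map_one' := LinearMap.ext fun v => by show ρ ((1 : M) : G) v = v; rw [Subgroup.coe_one, map_one]; rfl
      map_mul' := fun u w => LinearMap.ext fun v => ρ_mul_apply (ρ := ρ) (u : G) w v }
  have hσ : Function.Injective σ := fun u w h => Subtype.ext (hinj (LinearMap.ext fun v => DFunLike.congr_fun h v))
  have hscalar : ∀ z ∈ Subgroup.center M, ∃ c : AdjoinRoot f, σ z = c • 1 := by
    intro z hz
    obtain ⟨k, hk⟩ := hcen z hz
    refine ⟨AdjoinRoot.mk f (X ^ k), LinearMap.ext fun v => ?_⟩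
    show ρ (z : G) v = aeval (ρ t) (X ^ k : (ZMod q)[X]) v
    rw [aeval_X_pow, hk, map_pow]
  obtain ⟨hle, heq⟩ := CentralQuotient.card_quotient_le σ hσ hscalar hc
  refine ⟨?_, fun he y hy y' hy' => ?_⟩
  · rw [← hn, mul_pow, mul_comm]
    exact Nat.mul_le_mul_left _ hle
  have he' : Nat.card (M ⧸ Subgroup.center M) = Module.finrank (AdjoinRoot f) V ^ 2 := by
    rw [← hn, mul_pow, mul_comm (f.natDegree ^ 2)] at he
    exact Nat.eq_of_mul_eq_mul_right (pow_pos hf.natDegree_pos 2) he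
  have hsc : ∀ y ∈ Subgroup.centralizer (M : Set G) ⊓ Subgroup.centralizer {t},
      ∃ c : AdjoinRoot f, ∀ v, ρ y v = c • v := by
    intro y hy
    obtain ⟨c, hc'⟩ := heq he' (lift y hy.2) (fun u => LinearMap.ext fun v => by
      show ρ (u : G) (ρ y v) = ρ y (ρ (u : G) v)
      rw [← ρ_mul_apply, ← ρ_mul_apply, Subgroup.mem_centralizer_iff.mp hy.1 u u.2])
    exact ⟨c, fun v => DFunLike.congr_fun hc' v⟩
  obtain ⟨c, hc1⟩ := hsc y hy
  obtain ⟨c', hc2⟩ := hsc y' hy'
  refine hinj (LinearMap.ext fun v => ?_)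
  rw [ρ_mul_apply, ρ_mul_apply, hc1, hc2, hc2, hc1, smul_smul, smul_smul, mul_comm]

omit [Nontrivial V] [Finite G] in
theorem orderOf_eq_of_primitive {n s : ℕ} (hn : 0 < n) (hd : s ∣ q ^ n - 1)
    (hprim : ∀ k, 0 < k → k < n → ¬ s ∣ q ^ k - 1) : orderOf (q : ZMod s) = n := by
  have hiff : ∀ k, (q : ZMod s) ^ k = 1 ↔ s ∣ q ^ k - 1 := fun k => by
    rw [← ZMod.natCast_eq_zero_iff, Nat.cast_sub (Nat.one_le_pow _ _ (Fact.out : q.Prime).pos)]
    push_cast
    rw [sub_eq_zero]
  rw [orderOf_eq_iff hn]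
  exact ⟨(hiff n).mpr hd, fun k hk hk0 h => hprim k hk0 hk ((hiff k).mp h)⟩

omit [Nontrivial V] [Finite G] in
theorem numeric_even {q i : ℕ} (hq : q.Prime) (hq2 : q ≠ 2) (hi : 2 ≤ i)
    (h : q ^ 2 ^ (i - 1) + 1 ≤ 2 * (2 ^ i + 1)) : q = 3 ∧ i = 2 := by
  obtain ⟨j, rfl⟩ : ∃ j, i = j + 2 := ⟨i - 2, by omega⟩
  have hq3 : 3 ≤ q := by have := hq.two_le; omega
  rw [show j + 2 - 1 = j + 1 by omega, show 2 ^ (j + 2) = 2 * 2 ^ (j + 1) by rw [pow_succ' 2 (j + 1)]] at h
  rcases Nat.eq_zero_or_pos j with rfl | hj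
  · refine ⟨?_, rfl⟩
    by_contra hne
    have := Nat.pow_le_pow_left (show 4 ≤ q by omega) 2
    norm_num at h
    omega
  · exfalso
    have key : ∀ m, 4 ≤ m → 4 * m + 1 < 3 ^ m := by
      intro m hm
      induction m, hm using Nat.le_induction with
      | base => norm_num
      | succ m hm ih => rw [pow_succ]; omega
    have h4 : 4 ≤ 2 ^ (j + 1) := by
      have := Nat.pow_le_pow_right (show 0 < 2 by norm_num) (show 2 ≤ j + 1 by omega)
      omega
    have := key _ h4
    have := Nat.pow_le_pow_left hq3 (2 ^ (j + 1))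
    omega

omit [Fact q.Prime] [Module (ZMod q) V] [Finite V] [Nontrivial V] [Finite G] in
theorem numeric_two {q : ℕ} (hq : q.Prime) (hq2 : q ≠ 2) (h : q + 1 ∣ 24) :
    q ^ 2 ∈ ({9, 25, 49, 121, 529, 81} : Set ℕ) := by
  have hle : q ≤ 23 := by have := Nat.le_of_dvd (by norm_num) h; omega
  interval_cases q <;> first | omega | (exfalso; revert h hq; decide) | norm_num

omit [Finite V] [Nontrivial V] in
/-- A normal subgroup with elementary abelian quotient over the cyclic one. -/
theorem exists_middle [Group.IsSolvable G] (B C : Subgroup G) [B.Normal] [C.Normal] (hBC : B ≤ C) (hne : C ≠ B) :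
    ∃ (p : ℕ) (_ : Fact p.Prime) (M : Subgroup G), M.Normal ∧ B ≤ M ∧ M ≤ C ∧ M ≠ B ∧ (∀ u ∈ M, u ^ p ∈ B) ∧
      ∀ u ∈ M, ∀ v ∈ M, u * v * u⁻¹ * v⁻¹ ∈ B := by
  classical
  set π := QuotientGroup.mk' B with hπ
  haveI : (C.map π).Normal := Subgroup.Normal.map inferInstance π (QuotientGroup.mk'_surjective B)
  haveI : Group.IsSolvable (G ⧸ B) := Group.isSolvable_of_surjective (QuotientGroup.mk'_surjective B)
  set Cb := C.map π
  let D : ℕ → Subgroup (G ⧸ B) := fun i => (derivedSeries Cb i).map Cb.subtype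
  have hex : ∃ i, D i = ⊥ := by
    obtain ⟨i, hi⟩ := (inferInstance : Group.IsSolvable Cb).solvable
    exact ⟨i, by simp [D, hi]⟩
  obtain ⟨k, hk⟩ : ∃ k, Nat.find hex = k + 1 := by
    refine Nat.exists_eq_succ_of_ne_zero fun h0 => hne (le_antisymm ?_ hBC)
    have h1 := Nat.find_spec hex
    rw [h0] at h1
    simp only [D, derivedSeries_zero, ← MonoidHom.range_eq_map, Subgroup.range_subtype] at h1
    exact ((Subgroup.map_eq_bot_iff C).mp h1).trans (QuotientGroup.ker_mk' B).le
  have hk1 : D (k + 1) = ⊥ := hk ▸ Nat.find_spec hex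
  have hk0 : D k ≠ ⊥ := Nat.find_min hex (by omega)
  have hDle : D k ≤ Cb := Subgroup.map_subtype_le _
  haveI : (D k).Normal := ConjAct.normal_of_characteristic_of_normal
  have hDcomm : ∀ a ∈ D k, ∀ b ∈ D k, a * b = b * a := by
    rintro _ ⟨a, ha, rfl⟩ _ ⟨b, hb, rfl⟩
    have h1 : (Cb.subtype (a * b * a⁻¹ * b⁻¹)) ∈ D (k + 1) :=
      ⟨_, by rw [derivedSeries_succ]; exact Subgroup.commutator_mem_commutator ha hb, rfl⟩
    rw [hk1, Subgroup.mem_bot, map_mul, map_mul, map_mul, map_inv, map_inv] at h1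
    exact mul_inv_eq_iff_eq_mul.mp (mul_inv_eq_one.mp h1)
  set p := (Nat.card (D k)).minFac with hp
  have hpp : p.Prime := Nat.minFac_prime (fun h1 => hk0 (Subgroup.card_eq_one.mp h1))
  haveI := Fact.mk hpp
  let E : Subgroup (G ⧸ B) :=
    { carrier := {a | a ∈ D k ∧ a ^ p = 1}
      mul_mem' := fun {a b} ha hb => ⟨(D k).mul_mem ha.1 hb.1, by
        rw [(show Commute a b from hDcomm a ha.1 b hb.1).mul_pow, ha.2, hb.2, one_mul]⟩
      one_mem' := ⟨(D k).one_mem, one_pow p⟩
      inv_mem' := fun {a} ha => ⟨(D k).inv_mem ha.1, by rw [inv_pow, ha.2, inv_one]⟩ }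
  haveI : E.Normal := ⟨fun a ha g => ⟨(inferInstance : (D k).Normal).conj_mem a ha.1 g, by
    rw [conj_pow, ha.2, mul_one, mul_inv_cancel]⟩⟩
  obtain ⟨a, ha⟩ := exists_prime_orderOf_dvd_card' (G := D k) p (Nat.minFac_dvd _)
  rw [← Subgroup.orderOf_coe] at ha
  refine ⟨p, inferInstance, E.comap π, inferInstance, ?_, ?_, ?_, ?_, ?_⟩
  · intro b hb
    show π b ∈ E
    rw [show π b = 1 from (QuotientGroup.eq_one_iff b).mpr hb]
    exact E.one_mem
  · intro u hu
    obtain ⟨c, hc, hcu⟩ := hDle hu.1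
    have h1 : c⁻¹ * u ∈ B := QuotientGroup.eq.mp hcu
    have h2 := C.mul_mem hc (hBC h1)
    rwa [mul_inv_cancel_left] at h2
  · intro he
    obtain ⟨u, hu⟩ := QuotientGroup.mk'_surjective B (a : G ⧸ B)
    have huE : u ∈ E.comap π := by
      show π u ∈ E
      rw [hπ, hu]
      exact ⟨a.2, by rw [← ha]; exact pow_orderOf_eq_one _⟩
    rw [he] at huE
    rw [← hu, show QuotientGroup.mk' B u = 1 from (QuotientGroup.eq_one_iff u).mpr huE, orderOf_one] at ha
    exact hpp.one_lt.ne ha
  · intro u hu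
    rw [← QuotientGroup.eq_one_iff, QuotientGroup.mk_pow]
    exact hu.2
  · intro u hu v hv
    rw [← QuotientGroup.eq_one_iff]
    show π (u * v * u⁻¹ * v⁻¹) = 1
    rw [map_mul, map_mul, map_mul, map_inv, map_inv, hDcomm _ hu.1 _ hv.1]
    group

set_option maxHeartbeats 1600000 in
/-- Huppert: solvable groups transitive on the nonzero vectors are semilinear apart from six orders. -/
theorem main [Group.IsSolvable G] (hinj : Function.Injective ρ)
    (htr : ∀ v w : V, v ≠ 0 → w ≠ 0 → ∃ g, ρ g v = w) :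
    (∃ (F : Type) (_ : Field F) (_ : Fintype F) (e : V ≃+ F),
        ∀ g : G, ∃ (a : F) (σ : F ≃+* F), ∀ v : V, e (ρ g v) = a * σ (e v)) ∨
      Nat.card V ∈ ({9, 25, 49, 121, 529, 81} : Set ℕ) := by
  classical
  have hqp := (Fact.out : q.Prime)
  set n := Module.finrank (ZMod q) V with hn
  have hVcard : Nat.card V = q ^ n := by rw [Module.natCard_eq_pow_finrank (K := ZMod q), Nat.card_zmod]
  have hGn : q ^ n - 1 ∣ Nat.card G := dvd_card htr
  have hqn0 : 0 < n := Module.finrank_pos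
  haveI : Finite (Subgroup G) := Finite.of_injective (fun H : Subgroup G => (H : Set G)) SetLike.coe_injective
  let S : Set (Subgroup G) := {B | B.Normal ∧ IsCyclic B}
  have hne : S.Nonempty := ⟨⊥, inferInstance, inferInstance⟩
  obtain ⟨B, ⟨hBn, hBc⟩, hmax⟩ := Set.Finite.exists_maximal (Set.toFinite S) hne
  haveI := hBn
  haveI := hBc
  obtain ⟨⟨t, htB⟩, htgen⟩ := IsCyclic.exists_generator (α := B)
  have ht : Subgroup.zpowers t = B := by
    refine le_antisymm (Subgroup.zpowers_le.mpr htB) fun x hx => ?_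
    obtain ⟨s, hs⟩ := Subgroup.mem_zpowers_iff.mp (htgen ⟨x, hx⟩)
    exact Subgroup.mem_zpowers_iff.mpr ⟨s, congrArg Subtype.val hs⟩
  have hconj := conj_pow_of_normal B ht
  have hBcomm : ∀ a ∈ B, ∀ b ∈ B, a * b = b * a := by
    intro a ha b hb
    rw [← ht] at ha hb
    obtain ⟨i, rfl⟩ := Subgroup.mem_zpowers_iff.mp ha
    obtain ⟨j, rfl⟩ := Subgroup.mem_zpowers_iff.mp hb
    exact zpow_mul_comm t i j
  obtain ⟨f, hf, hfT⟩ := exists_irreducible htr t hconj
  set g := f.natDegree with hg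
  have hg0 : 0 < g := hf.natDegree_pos
  have hfμ : f ∣ minpoly (ZMod q) (ρ t) := by
    obtain ⟨c, hc⟩ := minpoly.dvd (ZMod q) (ρ t) hfT
    rcases hf.isUnit_or_isUnit hc with h | h
    · exact absurd h (not_isUnit_of_degree_pos _ (minpoly.degree_pos (Algebra.IsIntegral.isIntegral _)))
    · rw [hc]; exact h.mul_right_dvd.mpr dvd_rfl
  obtain ⟨f', hf', hf'd, -, hord, hconjn⟩ := eigen t
    (fun j v hv h => fpf_of_normal hinj htr B hBcomm (B.pow_mem htB j) hv h) f hf.ne_zero hfT hconj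
  have hgg : f'.natDegree = g := natDegree_eq_of_degree_eq (degree_eq_degree_of_associated
    (hf'.associated_of_dvd hf (hf'd.trans (minpoly.dvd _ _ hfT))))
  rw [hgg] at hord
  by_cases hgn : n ≤ g
  · exact Or.inl (semilinear t hconj f hf hfμ hgn)
  right
  obtain ⟨m, hm⟩ := degree_dvd hf hfT
  rw [← hn, ← hg] at hm
  have h2g : 2 * g ≤ n := by
    rcases m with _ | _ | m
    · omega
    · omega
    · rw [hm, mul_comm 2 g]; exact Nat.mul_le_mul_left _ (by omega)
  set C := Subgroup.centralizer (B : Set G) with hC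
  haveI : C.Normal := inferInstance
  have hCt : Subgroup.centralizer {t} = C := centralizer_eq ht
  have hr : C.index ≤ g := by rw [← hCt, ← card_conjugates]; exact hconjn
  have hbdvd : Nat.card B ∣ q ^ g - 1 := by rw [← ht, Nat.card_zpowers]; exact hord
  have hqg : 0 < q ^ g - 1 := by have := Nat.one_lt_pow hg0.ne' hqp.one_lt; omega
  have hBleC : B ≤ C := fun x hx => Subgroup.mem_centralizer_iff.mpr fun y hy => hBcomm y hy x hx
  have hCB : C ≠ B := by
    intro he
    refine count_false hqp.two_le hqn0 (b := Nat.card B) (r := C.index) (g := g) ?_ (hr.trans (by omega))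
      (Nat.le_of_dvd hqg hbdvd) h2g
    rw [he, B.card_mul_index]
    exact Nat.le_of_dvd Nat.card_pos hGn
  obtain ⟨p, hpF, M, hMn, hBM, hMC, hMB, hMp, hMc⟩ := exists_middle B C hBleC hCB
  haveI := hMn
  have hp := (Fact.out : p.Prime)
  have hcen : Subgroup.center M = B.subgroupOf M := by
    ext z
    rw [Subgroup.mem_subgroupOf, Subgroup.mem_center_iff]
    refine ⟨fun hz => ?_, fun hz u => Subtype.ext (Subgroup.mem_centralizer_iff.mp (hMC u.2) z hz).symm⟩
    set A := M ⊓ Subgroup.centralizer (M : Set G)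
    haveI : A.Normal := inferInstance
    haveI : IsCyclic A := cyclic_of_normal hinj htr A fun a ha b hb => (Subgroup.mem_centralizer_iff.mp hb.2 a ha.1)
    have hBA : B ≤ A := le_inf hBM fun x hx => Subgroup.mem_centralizer_iff.mpr fun y hy =>
      (Subgroup.mem_centralizer_iff.mp (hMC hy) x hx).symm
    exact hmax ⟨inferInstance, inferInstance⟩ hBA
      ⟨z.2, Subgroup.mem_centralizer_iff.mpr fun y hy => congrArg Subtype.val (hz ⟨y, hy⟩)⟩
  have hcomm : ∀ u v : M, u * v * u⁻¹ * v⁻¹ ∈ Subgroup.center M := fun u v => by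
    rw [hcen, Subgroup.mem_subgroupOf]; exact hMc u u.2 v v.2
  have hpow : ∀ u : M, u ^ p ∈ Subgroup.center M := fun u => by
    rw [hcen, Subgroup.mem_subgroupOf]; exact hMp u u.2
  have hcenk : ∀ z ∈ Subgroup.center M, ∃ k : ℕ, (z : G) = t ^ k := by
    intro z hz
    rw [hcen, Subgroup.mem_subgroupOf, ← ht] at hz
    obtain ⟨k, hk⟩ := mem_powers_iff_mem_zpowers.mpr hz
    exact ⟨k, hk.symm⟩
  obtain ⟨hbound, hspan⟩ := bound hinj t hf hfT M (hCt ▸ hMC) hcenk hcomm
  rw [← hg, ← hn] at hbound hspan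
  -- the prime and the size of the quotient
  have hQp : IsPGroup p (M ⧸ Subgroup.center M) := fun a => by
    obtain ⟨u, rfl⟩ := QuotientGroup.mk_surjective a
    exact ⟨1, by rw [pow_one, ← QuotientGroup.mk_pow, QuotientGroup.eq_one_iff]; exact hpow u⟩
  obtain ⟨j, hj⟩ := IsPGroup.iff_card.mp hQp
  have hnab : ¬ ∀ u v : M, u * v = v * u := by
    intro hab
    apply hMB
    refine le_antisymm (fun u hu => ?_) hBM
    have h1 : (⟨u, hu⟩ : M) ∈ Subgroup.center M := Subgroup.mem_center_iff.mpr fun v => hab v _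
    rwa [hcen, Subgroup.mem_subgroupOf] at h1
  have hj2 : 2 ≤ j := by
    by_contra hlt
    apply hnab
    haveI : IsCyclic (M ⧸ Subgroup.center M) := by
      rcases (show j = 0 ∨ j = 1 by omega) with rfl | rfl
      · haveI : Subsingleton (M ⧸ Subgroup.center M) := (Nat.card_eq_one_iff_unique.mp (by rw [hj, pow_zero])).1
        exact isCyclic_of_subsingleton
      · exact isCyclic_of_prime_card (p := p) (by rw [hj, pow_one])
    exact (MonoidHom.isMulCommutative_of_isCyclic_of_ker_le_center (QuotientGroup.mk' (Subgroup.center M))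
      (by rw [QuotientGroup.ker_mk'])).is_comm.comm
  have hpb : p ∣ Nat.card B := by
    push Not at hnab
    obtain ⟨u, v, huv⟩ := hnab
    have hcp : (u * v * u⁻¹ * v⁻¹) ^ p = 1 := by
      have hz := Subgroup.mem_center_iff.mp (hcomm u v)
      have hp' := Subgroup.mem_center_iff.mp (hpow u)
      have h1 : ∀ k : ℕ, u ^ k * v * (u ^ k)⁻¹ = (u * v * u⁻¹ * v⁻¹) ^ k * v := by
        intro k
        induction k with
        | zero => simp
        | succ k ih =>
          calc u ^ (k + 1) * v * (u ^ (k + 1))⁻¹ = u * (u ^ k * v * (u ^ k)⁻¹) * u⁻¹ := by rw [pow_succ']; group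
            _ = u * (u * v * u⁻¹ * v⁻¹) ^ k * (v * u⁻¹) := by rw [ih]; group
            _ = (u * v * u⁻¹ * v⁻¹) ^ k * u * (v * u⁻¹) := by
              rw [((show Commute u (u * v * u⁻¹ * v⁻¹) from hz u).pow_right k).eq]
            _ = _ := by rw [pow_succ]; group
      have h2 := h1 p
      rw [← hp' v, mul_inv_cancel_right] at h2
      exact right_eq_mul.mp h2
    have hne1 : u * v * u⁻¹ * v⁻¹ ≠ 1 := fun h => huv (mul_inv_eq_iff_eq_mul.mp (mul_inv_eq_one.mp h))
    have ho := orderOf_eq_prime hcp hne1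
    rw [← Subgroup.orderOf_coe] at ho
    have h3 := orderOf_dvd_natCard (⟨_, hMc u u.2 v v.2⟩ : B)
    rw [← Subgroup.orderOf_coe] at h3
    simp only [Subgroup.coe_mul, Subgroup.coe_inv] at ho
    simp only at h3
    rwa [ho] at h3
  have hZ : Nat.card (M ⧸ Subgroup.center M) * g ^ 2 = n ^ 2 →
      Subgroup.centralizer (M : Set G) ⊓ C ≤ B := by
    intro he
    set A := Subgroup.centralizer (M : Set G) ⊓ C with hA
    haveI : A.Normal := inferInstance
    haveI : IsCyclic A := cyclic_of_normal hinj htr A (by rw [hA, ← hCt]; exact hspan he)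
    have hBA : B ≤ A := le_inf (fun x hx => Subgroup.mem_centralizer_iff.mpr fun y hy =>
      (Subgroup.mem_centralizer_iff.mp (hMC hy) x hx).symm) hBleC
    exact hmax ⟨inferInstance, inferInstance⟩ hBA
  let κ : G →* MulAut M := MulAut.conjNormal
  have hκC : ∀ x ∈ C, ∀ z ∈ Subgroup.center M, κ x z = z := by
    intro x hx z hz
    rw [hcen, Subgroup.mem_subgroupOf] at hz
    refine Subtype.ext ?_
    rw [MulAut.conjNormal_apply, ← Subgroup.mem_centralizer_iff.mp hx z hz, mul_inv_cancel_right]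
  have hκker : ∀ x, κ x = 1 → x ∈ Subgroup.centralizer (M : Set G) := by
    intro x hx
    refine Subgroup.mem_centralizer_iff.mpr fun u hu => ?_
    have h1 := congrArg Subtype.val (DFunLike.congr_fun hx (⟨u, hu⟩ : M))
    simp only [κ, MulAut.conjNormal_apply, MulAut.one_apply] at h1
    exact (mul_inv_eq_iff_eq_mul.mp h1).symm
  have hcenB : Nat.card (Subgroup.center M) = Nat.card B := by
    rw [hcen]; exact Nat.card_congr (Subgroup.subgroupOfEquivOfLe hBM).toEquiv
  have hinC : ∀ (x : G) (s : ℕ), s.Prime → orderOf x = s → C.index < s → x ∈ C := by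
    intro x s hs hx hlt
    have h1 : orderOf (QuotientGroup.mk' C x) ∣ s := hx ▸ orderOf_map_dvd _ x
    have h2 : orderOf (QuotientGroup.mk' C x) ∣ C.index := orderOf_dvd_natCard _
    rcases (Nat.dvd_prime hs).mp h1 with h | h
    · rw [orderOf_eq_one_iff, QuotientGroup.mk'_apply, QuotientGroup.eq_one_iff] at h
      exact h
    · rw [h] at h2
      exact absurd (Nat.le_of_dvd (Nat.pos_of_ne_zero Subgroup.FiniteIndex.index_ne_zero) h2) (by omega)
  -- an element of prime order acting trivially on the quotient centralises `M`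
  have htriv : ∀ (x : G) (s : ℕ), s.Prime → orderOf x = s → x ∈ C → ¬ s ∣ Nat.card B →
      CentralQuotient.qaut (κ x) = 1 → x ∈ Subgroup.centralizer (M : Set G) := by
    intro x s hs hx hxC hsb hq1
    refine hκker x (CentralQuotient.eq_one_of_trivial _ (hκC x hxC) hq1 (s := s) ?_ ?_)
    · rw [← map_pow, ← hx, pow_orderOf_eq_one, map_one]
    · rw [hcenB]; exact ((hs.coprime_iff_not_dvd).mpr hsb).symm
  -- every primitive prime is `n + 1`
  have hprimitive : ∀ s : ℕ, s.Prime → s ∣ q ^ n - 1 → (∀ k, 0 < k → k < n → ¬ s ∣ q ^ k - 1) →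
      g = 1 ∧ p = 2 ∧ ∃ i, n = 2 ^ i ∧ s = n + 1 ∧ Nat.card (M ⧸ Subgroup.center M) = n ^ 2 := by
    intro s hs hsd hprim
    haveI := Fact.mk hs
    have hsq : s ≠ q := by
      rintro rfl
      have h1 : s ∣ s ^ n := dvd_pow_self _ hqn0.ne'
      have h2 := Nat.dvd_sub h1 hsd
      rw [Nat.sub_sub_self (Nat.one_le_pow _ _ hqp.pos)] at h2
      exact hs.one_lt.ne' (Nat.dvd_one.mp h2)
    have hsn : n + 1 ≤ s := by
      have hq0 : (q : ZMod s) ≠ 0 := by
        rw [Ne, ZMod.natCast_eq_zero_iff]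
        exact fun hd => hsq ((Nat.prime_dvd_prime_iff_eq hs hqp).mp hd)
      have h1 := ZMod.orderOf_dvd_card_sub_one hq0
      rw [orderOf_eq_of_primitive (q := q) hqn0 hsd hprim] at h1
      have := Nat.le_of_dvd (by have := hs.two_le; omega) h1
      omega
    have hsb : ¬ s ∣ Nat.card B := fun hd => hprim g hg0 (by omega) (hd.trans hbdvd)
    obtain ⟨x, hx⟩ := exists_prime_orderOf_dvd_card' (G := G) s (hsd.trans hGn)
    have hxC : x ∈ C := hinC x s hs hx (by omega)
    have hxs : ρ x ^ s = 1 := by rw [← map_pow, ← hx, pow_orderOf_eq_one, map_one]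
    have hx1 : ρ x ≠ 1 := by
      intro h1
      rw [← map_one ρ] at h1
      rw [hinj h1, orderOf_one] at hx
      exact hs.one_lt.ne hx
    have hnotM : x ∉ Subgroup.centralizer (M : Set G) := by
      intro hxM
      apply hnab
      intro u v
      have hcm : ∀ w : M, Commute (ρ x) (ρ (w : G)) := fun w => by
        show ρ x * ρ (w : G) = ρ (w : G) * ρ x
        rw [← map_mul, ← map_mul, Subgroup.mem_centralizer_iff.mp hxM w w.2]
      have h1 := (PrimeOrder.commutant_comm (ρ x) hs hsq hxs hx1 hprim _ _ (hcm u) (hcm v)).eq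
      rw [← map_mul, ← map_mul] at h1
      exact Subtype.ext (hinj h1)
    have hs2 : s ≠ 2 := by omega
    have hsp : s ≠ p := fun e => hsb (e ▸ hpb)
    obtain ⟨i, hi, hiQ, hdiv⟩ := CentralQuotient.pairing_bound hcomm hpow (κ x) (hκC x hxC) hs hs2 hsp
      (by rw [← map_pow, ← hx, pow_orderOf_eq_one, map_one]) (fun h => hnotM (htriv x s hs hx hxC hsb h))
    have hpi : p ^ i * g ≤ n := by
      have h1 : (p ^ i * g) ^ 2 ≤ n ^ 2 := by
        rw [mul_pow, ← pow_mul, mul_comm i 2]
        exact (Nat.mul_le_mul_right _ hiQ).trans hbound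
      exact (Nat.pow_le_pow_iff_left (by norm_num)).mp h1
    have hpi1 : p ^ i ≤ p ^ i * g := Nat.le_mul_of_pos_right _ hg0
    rcases hdiv with h1 | h1
    · have hpos : 0 < p ^ i - 1 := by have := Nat.one_lt_pow hi.ne' hp.one_lt; omega
      have := Nat.le_of_dvd hpos h1
      omega
    have := Nat.le_of_dvd (Nat.succ_pos _) h1
    have hg1 : g = 1 := by
      by_contra hg1
      have : p ^ i * 2 ≤ p ^ i * g := Nat.mul_le_mul_left _ (by omega)
      have := pow_pos hp.pos i
      omega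
    have hp2 : p = 2 := by
      by_contra hp2
      obtain ⟨k, hk⟩ := (hp.odd_of_ne_two hp2).pow (n := i)
      obtain ⟨l, hl⟩ := hs.odd_of_ne_two hs2
      rw [hg1, mul_one] at hpi
      omega
    refine ⟨hg1, hp2, i, ?_, by omega, ?_⟩
    · rw [← hp2]; omega
    · rw [hg1, one_pow, mul_one] at hbound
      refine le_antisymm hbound (le_trans (le_of_eq ?_) hiQ)
      rw [mul_comm 2 i, pow_mul]
      congr 1
      rw [hg1, mul_one] at hpi
      omega
  by_cases hn2 : n = 2
  · -- dimension two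
    have hg1 : g = 1 := by omega
    rw [hg1, one_pow, mul_one, hj, hn2] at hbound
    have hp2 : p = 2 := by
      by_contra hp2
      have h3 : 3 ≤ p := by have := hp.two_le; omega
      have := (Nat.pow_le_pow_right hp.pos hj2).trans hbound
      have := Nat.pow_le_pow_left h3 2
      omega
    have hj' : j = 2 := by
      rw [hp2] at hbound
      have : 2 ^ j ≤ 2 ^ 2 := by omega
      have := (Nat.pow_le_pow_iff_right (by norm_num)).mp this
      omega
    have hQ4 : Nat.card (M ⧸ Subgroup.center M) = 4 := by rw [hj, hp2, hj']; norm_num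
    have hZ' := hZ (by rw [hQ4, hg1, hn2]; norm_num)
    have hCtop : C = ⊤ := by
      rw [← Subgroup.index_eq_one]
      have := Subgroup.FiniteIndex.index_ne_zero (H := C)
      omega
    haveI : IsCyclic (Subgroup.center M) := by
      rw [hcen]
      exact isCyclic_of_injective (Subgroup.subgroupOfEquivOfLe hBM).toMonoidHom
        (Subgroup.subgroupOfEquivOfLe hBM).injective
    have hE := CentralQuotient.card_aut_dvd hQ4 (fun u => hp2 ▸ hpow u) κ.range (by
      rintro _ ⟨x, rfl⟩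
      exact hκC x (hCtop ▸ Subgroup.mem_top x))
    have hker : κ.ker = B := by
      ext x
      rw [MonoidHom.mem_ker]
      refine ⟨fun h => hZ' ⟨hκker x h, hCtop ▸ Subgroup.mem_top x⟩, fun hx => MulEquiv.ext fun u => Subtype.ext ?_⟩
      rw [MulAut.conjNormal_apply, MulAut.one_apply, Subgroup.mem_centralizer_iff.mp (hMC u.2) x hx, mul_inv_cancel_right]
    rw [← Subgroup.index_ker, hker] at hE
    obtain ⟨c, hc⟩ := hbdvd
    rw [hg1, pow_one] at hc
    have hdvd : q + 1 ∣ B.index := by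
      have h1 := hGn
      rw [← B.card_mul_index, hn2] at h1
      have h2 : q ^ 2 - 1 = (Nat.card B * c) * (q + 1) := by
        rw [← hc]
        obtain ⟨k, rfl⟩ : ∃ k, q = k + 1 := ⟨q - 1, by have := hqp.pos; omega⟩
        rw [Nat.add_sub_cancel, show (k + 1) ^ 2 = k * (k + 1 + 1) + 1 by ring, Nat.add_sub_cancel]
      rw [h2, mul_assoc] at h1
      exact (Dvd.intro_left c rfl).trans ((Nat.mul_dvd_mul_iff_left Nat.card_pos).mp h1)
    have h24 : q + 1 ∣ 24 := hdvd.trans hE
    have hq2 : q ≠ 2 := by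
      rintro rfl
      have hB1 : Nat.card B = 1 := Nat.dvd_one.mp (Dvd.intro c (by omega))
      rw [hB1, Nat.dvd_one] at hpb
      omega
    rw [hVcard, hn2]
    exact numeric_two hqp hq2 h24
  by_cases h64 : q = 2 ∧ n = 6
  · -- the case `2 ^ 6`
    exfalso
    obtain ⟨hq22, hn6⟩ := h64
    haveI : Fact (Nat.Prime 7) := ⟨by norm_num⟩
    have hgdvd : g ∣ 6 := hn6 ▸ hm ▸ dvd_mul_right g m
    have hgle : g ≤ 3 := by omega
    have hb : p ∣ 2 ^ g - 1 := by rw [← hq22]; exact hpb.trans hbdvd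
    rw [hn6, hj] at hbound
    have hpj : p ^ 2 ≤ p ^ j := Nat.pow_le_pow_right hp.pos hj2
    have hg2 : g = 2 := by
      interval_cases g
      · norm_num at hb
        exact absurd hb hp.one_lt.ne'
      · rfl
      · norm_num at hb
        obtain rfl : p = 7 := (Nat.prime_dvd_prime_iff_eq hp (by norm_num)).mp hb
        norm_num at hbound hpj
        omega
    rw [hg2] at hb hbound
    norm_num at hb
    obtain rfl : p = 3 := (Nat.prime_dvd_prime_iff_eq hp (by norm_num)).mp hb
    have hj' : j = 2 := by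
      have : 3 ^ j ≤ 3 ^ 2 := by omega
      have := (Nat.pow_le_pow_iff_right (by norm_num)).mp this
      omega
    obtain ⟨x, hx⟩ := exists_prime_orderOf_dvd_card' (G := G) 7 ((show 7 ∣ q ^ n - 1 by rw [hn6, hq22]; norm_num).trans hGn)
    have hxC : x ∈ C := hinC x 7 (by norm_num) hx (by omega)
    have h7b : ¬ 7 ∣ Nat.card B := fun hd => by
      have := hd.trans hbdvd
      rw [hg2, hq22] at this
      norm_num at this
    have hxM : x ∈ Subgroup.centralizer (M : Set G) := by
      by_contra hnot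
      obtain ⟨i, hi, hiQ, hdiv⟩ := CentralQuotient.pairing_bound hcomm hpow (κ x) (hκC x hxC) (s := 7) (by norm_num)
        (by norm_num) (by norm_num) (by rw [← map_pow, ← hx, pow_orderOf_eq_one, map_one])
        (fun h => hnot (htriv x 7 (by norm_num) hx hxC h7b h))
      rw [hj, hj'] at hiQ
      have hi1 : 2 * i ≤ 2 := (Nat.pow_le_pow_iff_right (by norm_num)).mp hiQ
      obtain rfl : i = 1 := by omega
      norm_num at hdiv
    have hxB : x ∈ B := hZ (by rw [hj, hj', hg2, hn6]; norm_num) ⟨hxM, hxC⟩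
    have := orderOf_dvd_natCard (⟨x, hxB⟩ : B)
    rw [← Subgroup.orderOf_coe] at this
    exact h7b (hx ▸ this)
  -- a primitive prime exists
  have hn3 : 3 ≤ n := by omega
  obtain ⟨s, hs, hsd, hprim⟩ := CfsgLib.NT.exists_primitive_prime hqp.two_le (by omega : 2 ≤ n) h64
    (fun h => hn2 h.1)
  obtain ⟨hg1, hp2, i, hni, hsn, hQn⟩ := hprimitive s hs hsd hprim
  have hi2 : 2 ≤ i := by
    by_contra hlt
    have := Nat.pow_le_pow_right (show 0 < 2 by norm_num) (show i ≤ 1 by omega)
    omega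
  have hq2 : q ≠ 2 := by
    rintro rfl
    have h1 := hpb.trans hbdvd
    rw [hg1, hp2] at h1
    norm_num at h1
  have hCtop : C = ⊤ := by
    rw [← Subgroup.index_eq_one]
    have := Subgroup.FiniteIndex.index_ne_zero (H := C)
    omega
  have hZ' := hZ (by rw [hQn, hg1, one_pow, mul_one])
  have hQp2 : IsPGroup 2 (M ⧸ Subgroup.center M) := hp2 ▸ hQp
  have hsb : ¬ s ∣ Nat.card B := fun hd => hprim g hg0 (by omega) (hd.trans hbdvd)
  -- the square of the primitive prime does not divide the order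
  have hsq : ¬ s ^ 2 ∣ Nat.card G := by
    intro hd
    haveI := Fact.mk hs
    obtain ⟨P, hP⟩ := Sylow.exists_subgroup_card_pow_prime s hd
    let Ψ : P →* MulAut (M ⧸ Subgroup.center M) := (CentralQuotient.qaut.comp κ).comp P.subtype
    obtain ⟨a, ha⟩ : ∃ a : M ⧸ Subgroup.center M, a ≠ 1 := by
      by_contra hall
      push Not at hall
      haveI : Subsingleton (M ⧸ Subgroup.center M) := ⟨fun a b => by rw [hall a, hall b]⟩
      rw [Nat.card_of_subsingleton (1 : M ⧸ Subgroup.center M)] at hQn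
      have := Nat.one_lt_pow (show 2 ≠ 0 by norm_num) (show 1 < n by omega)
      omega
    have hfree : ∀ y : P, Ψ y a = a → y = 1 := by
      intro y hy
      by_contra hy1
      have hdvd : s ∣ orderOf (y : G) := by
        have h1 := orderOf_dvd_natCard y
        rw [hP, ← Subgroup.orderOf_coe] at h1
        obtain ⟨k, -, hk⟩ := (Nat.dvd_prime_pow hs).mp h1
        rcases k with _ | k
        · rw [pow_zero, orderOf_eq_one_iff] at hk
          exact absurd (Subtype.ext hk) hy1
        · exact hk ▸ dvd_pow_self s (Nat.succ_ne_zero k)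
      set k := orderOf (y : G) / s with hk
      have hord' : orderOf ((y : G) ^ k) = s := orderOf_pow_orderOf_div (orderOf_pos _).ne' hdvd
      have hy' : CentralQuotient.qaut (κ ((y : G) ^ k)) a = a := by
        rw [map_pow, map_pow]
        have hst : CentralQuotient.qaut (κ (y : G)) ∈ MulAction.stabilizer (MulAut (M ⧸ Subgroup.center M)) a := hy
        exact (MulAction.stabilizer (MulAut (M ⧸ Subgroup.center M)) a).pow_mem hst k
      have hyC : (y : G) ^ k ∈ C := hCtop ▸ Subgroup.mem_top _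
      refine ha (CentralQuotient.fix_free hQp2 (i := i) (by omega) ?_ (hni ▸ hsn ▸ hs) _ ?_ ?_ hy')
      · rw [hQn, hni, ← pow_mul, mul_comm]
      · rw [← hni, ← hsn, ← map_pow, ← map_pow, ← hord', pow_orderOf_eq_one, map_one, map_one]
      · intro h1
        have h2 := hZ' ⟨htriv _ s hs hord' hyC hsb h1, hyC⟩
        have h3 := orderOf_dvd_natCard (⟨_, h2⟩ : B)
        rw [← Subgroup.orderOf_coe] at h3
        exact hsb (hord' ▸ h3)
    have hle : Nat.card P ≤ Nat.card (M ⧸ Subgroup.center M) :=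
      Nat.card_le_card_of_injective (fun y => Ψ y a) (fun y z hyz => by
        refine eq_of_inv_mul_eq_one (hfree (y⁻¹ * z) ?_)
        rw [map_mul, MulAut.mul_apply, ← show Ψ y a = Ψ z a from hyz, ← MulAut.mul_apply, ← map_mul, inv_mul_cancel,
          map_one, MulAut.one_apply])
    rw [hP, hQn, hsn] at hle
    have := (Nat.pow_le_pow_iff_left (show 2 ≠ 0 by norm_num)).mp hle
    omega
  -- counting
  set h := 2 ^ (i - 1) with hh
  have hnh : n = 2 * h := by rw [hni, hh, ← pow_succ', Nat.sub_add_cancel (by omega)]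
  have hodd : ∀ d : ℕ, d.Prime → d ≠ 2 → d ∣ q ^ h + 1 → d = s := by
    intro d hd hd2 hdd
    have hdn : d ∣ q ^ n - 1 := by
      refine hdd.trans ?_
      rw [hnh, mul_comm 2 h, pow_mul]
      have h1 := Nat.sq_sub_sq (q ^ h) 1
      rw [one_pow] at h1
      rw [h1]
      exact dvd_mul_right _ _
    have hdprim : ∀ k, 0 < k → k < n → ¬ d ∣ q ^ k - 1 := by
      intro k hk0 hkn hdk
      have hgcd : d ∣ q ^ Nat.gcd k n - 1 := by
        rw [← Nat.pow_sub_one_gcd_pow_sub_one]; exact Nat.dvd_gcd hdk hdn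
      have hdiv : Nat.gcd k n ∣ h := by
        obtain ⟨e, he, hek⟩ := (Nat.dvd_prime_pow Nat.prime_two).mp (show Nat.gcd k n ∣ 2 ^ i by rw [← hni]; exact Nat.gcd_dvd_right k n)
        rw [hek]
        have hlt : Nat.gcd k n < n := (Nat.le_of_dvd hk0 (Nat.gcd_dvd_left k n)).trans_lt hkn
        rw [hek, hni] at hlt
        have := (Nat.pow_lt_pow_iff_right (by norm_num)).mp hlt
        exact pow_dvd_pow 2 (by omega)
      have h1 : d ∣ q ^ h - 1 := hgcd.trans (Nat.pow_sub_one_dvd_pow_sub_one q hdiv)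
      have h2 := Nat.dvd_sub hdd h1
      rw [show q ^ h + 1 - (q ^ h - 1) = 2 by have := Nat.one_le_pow h q hqp.pos; omega] at h2
      exact hd2 ((Nat.prime_dvd_prime_iff_eq hd Nat.prime_two).mp h2)
    obtain ⟨-, -, i', -, hd', -⟩ := hprimitive d hd hdn hdprim
    omega
  obtain ⟨N, hN, hNodd⟩ : ∃ N, q ^ h + 1 = 2 * N ∧ ¬ 2 ∣ N := by
    obtain ⟨e, he⟩ : ∃ e, h = 2 * e := ⟨2 ^ (i - 2), by rw [hh, ← pow_succ']; congr 1; omega⟩
    obtain ⟨a, ha⟩ := (hqp.odd_of_ne_two hq2).pow (n := e)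
    refine ⟨2 * a * (a + 1) + 1, ?_, fun hd => ?_⟩
    · rw [he, mul_comm 2 e, pow_mul, ha]; ring
    · rw [mul_assoc, ← Nat.dvd_add_right (dvd_mul_right 2 (a * (a + 1)))] at *
      omega
  have hNs : N ∣ s := by
    have hN0 : N ≠ 0 := fun h0 => by subst h0; omega
    have hpow := Nat.eq_prime_pow_of_unique_prime_dvd hN0 (p := s) fun {d} hd hdN =>
      hodd d hd (fun e => hNodd (e ▸ hdN)) (hN ▸ hdN.mul_left 2)
    set k := N.primeFactorsList.length
    have hk : k ≤ 1 := by
      by_contra hk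
      apply hsq
      calc s ^ 2 ∣ s ^ k := pow_dvd_pow _ (by omega)
        _ ∣ N * 2 := by rw [← hpow]; exact dvd_mul_right _ _
        _ ∣ q ^ n - 1 := by
          rw [mul_comm, ← hN, hnh, mul_comm 2 h, pow_mul]
          have h1 := Nat.sq_sub_sq (q ^ h) 1
          rw [one_pow] at h1
          rw [h1]
          exact dvd_mul_right _ _
        _ ∣ Nat.card G := hGn
    rw [hpow]
    exact (pow_dvd_pow s hk).trans (pow_one s).dvd
  obtain ⟨hq3, hi'⟩ := numeric_even hqp hq2 hi2 (by
    rw [← hh, ← hni, ← hsn, hN]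
    exact Nat.mul_le_mul_left 2 (Nat.le_of_dvd hs.pos hNs))
  rw [hVcard, hni, hi', hq3]
  norm_num

end CfsgLib.Recognition.NearField.Huppert
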